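import Cfsg.Agent.Lib.Lie.Twisted.D4Mult.Rigid

/-!
# The explicit commutators and the orbits of the torus
-/

set_option autoImplicit false

namespace CfsgLib.Lie.Chev.TwGroups.D4Mult

open Cfsg.Lie
open scoped commutatorElement

variable {K : Type*} [Field K] [Fintype K] {q : ℕ} (hq : IsPrimePow q) (hK : Fintype.card K = q ^ 3)

theorem central3 {G : Type*} [Group G] {a b c x y w za zb zc : G} (h1 : a * w = w * a * za)
    (h2 : b * x = x * b * zb) (h3 : c * y = y * c * zc) (c1 : Commute a x) (c2 : Commute a y) (c3 : Commute b y)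
    (c4 : Commute b w) (c5 : Commute c x) (c6 : Commute c w) (z : ∀ g ∈ [a, b, c, x, y, w], Commute za g)
    (z' : ∀ g ∈ [a, b, c, x, y, w], Commute zb g ∧ Commute zc g) :
    a * b * c * (x * y * w) = x * y * w * (a * b * c) * (za * (zb * zc)) :=
  calc a * b * c * (x * y * w) = a * b * (c * x) * y * w := by group
    _ = a * (b * x) * (c * y) * w := by rw [c5.eq]; group
    _ = a * x * b * (zb * y) * c * (zc * w) := by rw [h2, h3]; group
    _ = a * x * (b * y) * (zb * c) * w * zc := by rw [(z' y (by simp)).1.eq, (z' w (by simp)).2.eq]; group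
    _ = a * x * y * b * c * (zb * w) * zc := by rw [c3.eq, (z' c (by simp)).1.eq]; group
    _ = a * x * y * b * (c * w) * zb * zc := by rw [(z' w (by simp)).1.eq]; group
    _ = (a * x) * y * (b * w) * c * zb * zc := by rw [c6.eq]; group
    _ = x * (a * y) * w * b * c * zb * zc := by rw [c1.eq, c4.eq]; group
    _ = x * y * (a * w) * b * c * zb * zc := by rw [c2.eq]; group
    _ = x * y * w * a * (za * b) * c * zb * zc := by rw [h1]; group
    _ = x * y * w * a * b * (za * c) * zb * zc := by rw [(z b (by simp)).eq]; group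
    _ = _ := by rw [(z c (by simp)).eq]; group

omit [Fintype K] in
/-- the commutator of the classes of `2α + β` and `α + β` -/
theorem comm_MB (s u : K) :
    ⁅xMD4 q s, xBD4 q u⁆ = xG certD4 K 23 (-(s * (u ^ q) ^ q + (s ^ q * u + (s ^ q) ^ q * u ^ q))) := by
  obtain ⟨-, -, ⟨t1, t2, t3, -⟩, -⟩ := termsD4
  obtain ⟨-, -, ⟨m1, m2, m3, m4, m5, m6⟩, -⟩ := quietD4
  obtain ⟨-, hc⟩ := centD4
  have hz : ∀ r ∈ [15, 16, 17, 19, 20, 21], ∀ x y : K, Commute (xG certD4 K 23 x) (xG certD4 K r y) := fun r hr x y =>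
    xG_commute certD4 (hc r (by simp only [List.mem_cons, List.not_mem_nil, or_false] at hr ⊢; omega)).2 x y
  have key := central3 (xG_swap_one certD4 t1 (-((u ^ q) ^ q)) s) (xG_swap_one certD4 t3 u (-(s ^ q)))
    (xG_swap_one certD4 t2 (-(u ^ q)) ((s ^ q) ^ q)) (xG_commute certD4 m6 u s).symm
    (xG_commute certD4 m1 (-(u ^ q)) s).symm (xG_commute certD4 m4 (-(u ^ q)) (-(s ^ q))).symm
    (xG_commute certD4 m3 (-((u ^ q) ^ q)) (-(s ^ q))).symm (xG_commute certD4 m5 u ((s ^ q) ^ q)).symm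
    (xG_commute certD4 m2 (-((u ^ q) ^ q)) ((s ^ q) ^ q)).symm
    (by simp only [List.forall_mem_cons, List.not_mem_nil, false_imp_iff, implies_true, and_true]
        exact ⟨hz 21 (by decide) _ _, hz 17 (by decide) _ _, hz 20 (by decide) _ _, hz 19 (by decide) _ _,
          hz 16 (by decide) _ _, hz 15 (by decide) _ _⟩)
    (by simp only [List.forall_mem_cons, List.not_mem_nil, false_imp_iff, implies_true, and_true]
        exact ⟨⟨hz 21 (by decide) _ _, hz 21 (by decide) _ _⟩, ⟨hz 17 (by decide) _ _, hz 17 (by decide) _ _⟩,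
          ⟨hz 20 (by decide) _ _, hz 20 (by decide) _ _⟩, ⟨hz 19 (by decide) _ _, hz 19 (by decide) _ _⟩,
          ⟨hz 16 (by decide) _ _, hz 16 (by decide) _ _⟩, ⟨hz 15 (by decide) _ _, hz 15 (by decide) _ _⟩⟩)
  rw [xG_pow_mul, xG_pow_mul] at key
  change xMD4 q s * xBD4 q u = xBD4 q u * xMD4 q s * _ at key
  have hcM : ∀ z : K, Commute (xG certD4 K 23 z) (xMD4 q s) ∧ Commute (xG certD4 K 23 z) (xBD4 q u) := fun z =>
    ⟨(((hz 21 (by decide) z _).mul_right (hz 17 (by decide) z _)).mul_right (hz 20 (by decide) z _)),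
      (((hz 19 (by decide) z _).mul_right (hz 16 (by decide) z _)).mul_right (hz 15 (by decide) z _))⟩
  rw [commutatorElement_def, key, mul_assoc (xBD4 q u) (xMD4 q s), ← (hcM _).1.eq, ← mul_assoc (xBD4 q u),
    ← (hcM _).2.eq]
  simp only [mul_assoc, mul_inv_cancel_left, mul_inv_cancel, mul_one]
  congr 1
  push_cast
  ring

omit [Fintype K] in
theorem nbTab : ([19, 16, 15].map fun r => (wB r, auxD4.eta 1 r)) = [(18, -1), (13, 1), (12, 1)] := by decide +kernel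

include hq hK in
theorem nbA_B (u : K) : nbA K * xBD4 q u * (nbA K)⁻¹ = xAD4 q (-u) := by
  have h := nbTab
  simp only [List.map_cons, List.map_nil, List.cons.injEq, Prod.mk.injEq] at h
  obtain ⟨⟨w1, e1⟩, ⟨w2, e2⟩, ⟨w3, e3⟩, -⟩ := h
  have e : ∀ x y z : ↥(chevD4.group K), nbA K * (x * y * z) * (nbA K)⁻¹ =
      (nbA K * x * (nbA K)⁻¹) * (nbA K * y * (nbA K)⁻¹) * (nbA K * z * (nbA K)⁻¹) := fun x y z => by group
  rw [xAD4, xBD4, e, nbA_X (by norm_num), nbA_X (by norm_num), nbA_X (by norm_num), w1, e1, w2, e2, w3, e3,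
    neg_pow_D4 hq hK, neg_pow_D4 hq hK]
  simp

/-- the list of roots above `α + β` -/
def Q3 : List ℕ := [21, 17, 20, 22, 23]

theorem Q3_perm : (Q3.all fun r => Q3.contains (wB r)) = true := by decide +kernel

include hq hK in
theorem twist_calc (s : K) :
    (xAD4 q s * xBD4 q s)⁻¹ * (xG certD4 K 14 1 * xAD4 q s * (xG certD4 K 14 1)⁻¹) ∈ UL K Q3 := by
  obtain ⟨E, hE, hZ⟩ : ∃ E, xBD4 q (-s) * xG certD4 K 9 1 = xG certD4 K 9 1 * E ∧
      (xAD4 q (- -s) * xMD4 q (-(-s * (-s) ^ q)))⁻¹ * ((xBD4 q (-s))⁻¹ * E) ∈ ZD4 K :=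
    ⟨_, comm_b_D4 hq hK (-s)⟩
  rw [neg_neg] at hZ
  obtain ⟨m, hm⟩ : ∃ m, m = xMD4 q (-(-s * (-s) ^ q)) := ⟨_, rfl⟩
  rw [← hm] at hZ
  obtain ⟨z, hz⟩ : ∃ z, z = (xAD4 q s * m)⁻¹ * ((xBD4 q (-s))⁻¹ * E) := ⟨_, rfl⟩
  rw [← hz] at hZ
  have hzU : m * z ∈ UL K Q3 := by
    obtain ⟨a, b, e⟩ := hZ
    refine mul_mem ?_ (e ▸ mul_mem (X_mem (by decide) _) (X_mem (by decide) _))
    rw [hm, xMD4]
    exact mul_mem (mul_mem (X_mem (by decide) _) (X_mem (by decide) _)) (X_mem (by decide) _)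
  have hw := perm_UL_B Q3_perm hzU
  have h9 : (nbA K) * (xG certD4 K 9 1)⁻¹ * (nbA K)⁻¹ = xG certD4 K 14 1 := by
    rw [show (xG certD4 K 9 (1 : K))⁻¹ = xG certD4 K 9 (-1) from ((R0 K).xe_neg 9 1).symm, nbA_9, neg_neg]
  have key : xG certD4 K 14 1 * (nbA K * xBD4 q (-s) * (nbA K)⁻¹) * (xG certD4 K 14 1)⁻¹ =
      (nbA K * xBD4 q (-s) * (nbA K)⁻¹) * (nbA K * xAD4 q s * (nbA K)⁻¹) * (nbA K * (m * z) * (nbA K)⁻¹) := by
    have hE' : E = (xG certD4 K 9 1)⁻¹ * (xBD4 q (-s) * xG certD4 K 9 1) := by rw [hE, inv_mul_cancel_left]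
    rw [← h9, hz, hE']; group
  rw [nbA_B hq hK, neg_neg, nbA_A] at key
  rw [key]
  convert hw using 1
  group

include hq hK in
theorem comm_MB_orbit {r : K} (hr : r ^ q = r) :
    ∃ s u : K, ⁅xMD4 q s, xBD4 q u⁆ = xG certD4 K 23 r := by
  by_cases hr0 : r = 0
  · refine ⟨0, 0, ?_⟩
    rw [comm_MB, hr0]; simp [hq.pos.ne']
  obtain ⟨u, hu⟩ : ∃ u : K, (u ^ q) ^ q + (u + u ^ q) ≠ 0 := by
    by_contra hcon
    simp only [not_exists, not_not] at hcon
    have h2 := hq.two_le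
    have hqq : q < q * q := by nlinarith
    have h3 : q * q < Fintype.card K := by rw [hK, pow_succ, sq]; exact lt_mul_of_one_lt_right (by positivity) (by omega)
    open Polynomial in
    have hP : (X ^ (q * q) + (X + X ^ q) : K[X]) = 0 := by
      refine eq_zero_of_natDegree_lt_card_of_eval_eq_zero _ Function.injective_id (fun w => ?_) ?_
      · simpa [pow_mul] using hcon w
      · refine lt_of_le_of_lt ?_ h3
        refine natDegree_add_le_of_degree_le ?_ (natDegree_add_le_of_degree_le ?_ ?_) <;>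
          first
            | exact (natDegree_X_pow_le _).trans (by omega)
            | exact natDegree_X_le.trans (by omega)
    open Polynomial in
    have := congrArg (fun p : K[X] => p.coeff 1) hP
    open Polynomial in
    simp [coeff_X_pow, coeff_X, show ¬ 1 = q * q by omega, show ¬ 1 = q by omega] at this
  obtain ⟨T, hT⟩ : ∃ T, T = (u ^ q) ^ q + (u + u ^ q) := ⟨_, rfl⟩
  rw [← hT] at hu
  have hTf : T ^ q = T := by
    rw [hT, add_q hq hK, add_q hq hK, pow_qqq hK]; ring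
  obtain ⟨a, ha⟩ : ∃ a : K, a = r / -T := ⟨_, rfl⟩
  have haf : a ^ q = a := by rw [ha, div_pow, hr, neg_pow_D4 hq hK, hTf]
  refine ⟨a, u, ?_⟩
  rw [comm_MB, haf, haf, ← mul_add, ← mul_add, ← hT, ha]
  congr 1
  field_simp

theorem ZTab : wA 23 = 23 ∧ wB 22 = 23 := by decide +kernel

/-- the sign by which a monomial product acts on a root -/
def braidS : ℕ → ℕ × ℤ := fun r =>
  let e := fun r => auxD4.eta 0 (auxD4.w 2 (auxD4.w 3 r)) * (auxD4.eta 2 (auxD4.w 3 r) * auxD4.eta 3 r)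
  let a := fun (p : ℕ × ℤ) => (wA p.1, e p.1 * p.2)
  let b := fun (p : ℕ × ℤ) => (wB p.1, auxD4.eta 1 p.1 * p.2)
  a (b (a (b (a (r, 1)))))

theorem braidTab : (braidS 14).1 = 14 ∧ (braidS 9).1 = 9 ∧ (braidS 14).2 = (braidS 9).2 ∧
    ((braidS 14).2 = 1 ∨ (braidS 14).2 = -1) ∧
    ([14, 9].all fun r => Nat.blt r 24 && Nat.blt (wA r) 24 && Nat.blt (wB (wA r)) 24 &&
      Nat.blt (wA (wB (wA r))) 24 && Nat.blt (wB (wA (wB (wA r)))) 24) = true := by
  decide +kernel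

omit [Fintype K] in
theorem braid_X {r : ℕ} (hr : r = 14 ∨ r = 9) (t : K) :
    (naA K * nbA K * naA K * nbA K * naA K) * xG certD4 K r t * (naA K * nbA K * naA K * nbA K * naA K)⁻¹ =
      xG certD4 K r (((braidS 14).2 : K) * t) := by
  obtain ⟨e1, e2, e3, -, hb⟩ := braidTab
  simp only [List.all_cons, List.all_nil, Bool.and_eq_true, nat_blt_iff, Bool.and_true] at hb
  obtain ⟨e, e', he⟩ : (braidS r).1 = r ∧ (braidS r).2 = (braidS 14).2 ∧
      (r < 24 ∧ wA r < 24 ∧ wB (wA r) < 24 ∧ wA (wB (wA r)) < 24 ∧ wB (wA (wB (wA r))) < 24) := by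
    rcases hr with rfl | rfl
    · exact ⟨e1, rfl, by tauto⟩
    · exact ⟨e2, e3.symm, by tauto⟩
  obtain ⟨h0, h1, h2, h3, h4⟩ := he
  rw [show (naA K * nbA K * naA K * nbA K * naA K) * xG certD4 K r t * (naA K * nbA K * naA K * nbA K * naA K)⁻¹ =
    naA K * (nbA K * (naA K * (nbA K * (naA K * xG certD4 K r t * (naA K)⁻¹) * (nbA K)⁻¹) * (naA K)⁻¹) *
      (nbA K)⁻¹) * (naA K)⁻¹ by group,
    naA_X h0, nbA_X h1, naA_X h2, nbA_X h3, naA_X h4]
  rw [← e']
  obtain ⟨n, hn⟩ : ∃ n, n = braidS r := ⟨_, rfl⟩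
  rw [← hn] at e ⊢
  simp only [braidS] at hn
  rw [hn] at e ⊢
  simp only at e
  rw [e]
  simp only [Int.cast_mul, Int.cast_one, mul_assoc, one_mul]

end CfsgLib.Lie.Chev.TwGroups.D4Mult
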