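import Cfsg.Agent.Lib.Lie.Twisted.D4Mult.Roots

/-!
# Characters, splittings and commutators in the triality groups
-/

set_option autoImplicit false

namespace CfsgLib.Lie.Chev.TwGroups.D4Mult

open Cfsg.Lie
open scoped commutatorElement

variable {K : Type*} [Field K] [Fintype K] {q : ℕ} (hq : IsPrimePow q) (hK : Fintype.card K = q ^ 3)

include hK in
theorem units_qqq (d : Kˣ) : ((d ^ q) ^ q) ^ q = d := Units.ext (by push_cast; exact pow_qqq hK _)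

theorem cartTab : ([18, 13, 12, 21, 17, 20, 19, 16, 15, 14, 9, 22, 23].map fun r =>
    (List.range 4).map fun i => chevD4.cartan i r) =
    [[2, -1, 0, 0], [0, -1, 2, 0], [0, -1, 0, 2], [1, 0, 1, -1], [-1, 0, 1, 1], [1, 0, -1, 1], [1, 1, -1, -1],
     [-1, 1, 1, -1], [-1, 1, -1, 1], [-1, 2, -1, -1], [1, -2, 1, 1], [1, -1, 1, 1], [0, 1, 0, 0]] := by
  decide +kernel

omit [Fintype K] in
theorem chi_eq (a d : Kˣ) :
    chi q 18 a d = d ^ 2 * a⁻¹ ∧ chi q 13 a d = a⁻¹ * (d ^ q) ^ 2 ∧ chi q 12 a d = a⁻¹ * ((d ^ q) ^ q) ^ 2 ∧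
    chi q 21 a d = d * d ^ q * ((d ^ q) ^ q)⁻¹ ∧ chi q 17 a d = d⁻¹ * d ^ q * (d ^ q) ^ q ∧
    chi q 20 a d = d * (d ^ q)⁻¹ * (d ^ q) ^ q ∧
    chi q 19 a d = d * a * (d ^ q)⁻¹ * ((d ^ q) ^ q)⁻¹ ∧ chi q 16 a d = d⁻¹ * a * d ^ q * ((d ^ q) ^ q)⁻¹ ∧
    chi q 15 a d = d⁻¹ * a * (d ^ q)⁻¹ * (d ^ q) ^ q ∧
    chi q 14 a d = d⁻¹ * a ^ 2 * (d ^ q)⁻¹ * ((d ^ q) ^ q)⁻¹ ∧
    chi q 9 a d = d * (a ^ 2)⁻¹ * d ^ q * (d ^ q) ^ q ∧
    chi q 22 a d = d * a⁻¹ * d ^ q * (d ^ q) ^ q ∧ chi q 23 a d = a := by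
  have h := cartTab
  simp only [List.map_cons, List.map_nil, List.range_succ, List.range_zero, List.nil_append, List.cons_append,
    List.cons.injEq, and_true] at h
  simp only [chi, h]
  simp [zpow_two, sq]

variable (a : Kˣ) (d : Kˣ)

/-- the character of the class of `α` -/
def cA : Kˣ := d ^ 2 * a⁻¹
/-- the character of the class of `2α + β` -/
def cM (q : ℕ) : Kˣ := d * d ^ q * ((d ^ q) ^ q)⁻¹
/-- the character of the class of `α + β` -/
def cB (q : ℕ) : Kˣ := d * a * (d ^ q)⁻¹ * ((d ^ q) ^ q)⁻¹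
/-- the character of `β` -/
def cb (q : ℕ) : Kˣ := d⁻¹ * a ^ 2 * (d ^ q)⁻¹ * ((d ^ q) ^ q)⁻¹

omit [Fintype K] in
theorem conj3 (g x y z : ↥(chevD4.group K)) :
    g * (x * y * z) * g⁻¹ = (g * x * g⁻¹) * (g * y * g⁻¹) * (g * z * g⁻¹) := by group

variable {a d} (ha : a ^ q = a)

include hK ha in
theorem hel_A (t : K) : hel q a d * xAD4 q t * (hel q a d)⁻¹ = xAD4 q ((cA a d : K) * t) := by
  obtain ⟨h1, h2, h3, -⟩ := chi_eq (q := q) a d
  have e : ∀ u : Kˣ, (u ^ q) = u ^ q := fun _ => rfl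
  rw [xAD4, conj3, hel_X _ _ (by norm_num), hel_X _ _ (by norm_num), hel_X _ _ (by norm_num), xAD4, h1, h2, h3]
  simp only [mul_pow, ← Units.val_pow_eq_pow_val, cA, inv_pow, ha]
  congr 2 <;> (congr 1; congr 1; simp only [← pow_mul, mul_comm, mul_assoc, Units.val_mul, Units.val_pow_eq_pow_val])

include hq hK ha in
theorem hel_M (t : K) : hel q a d * xMD4 q t * (hel q a d)⁻¹ = xMD4 q ((cM d q : K) * t) := by
  obtain ⟨-, -, -, h1, h2, h3, -⟩ := chi_eq (q := q) a d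
  rw [xMD4, conj3, hel_X _ _ (by norm_num), hel_X _ _ (by norm_num), hel_X _ _ (by norm_num), xMD4, h1, h2, h3]
  simp only [mul_pow, ← Units.val_pow_eq_pow_val, cM, inv_pow, units_qqq hK, neg_pow_D4 hq hK, mul_neg]
  congr 2 <;> simp only [Units.val_mul] <;> ring_nf

include hq hK ha in
theorem hel_B (t : K) : hel q a d * xBD4 q t * (hel q a d)⁻¹ = xBD4 q ((cB a d q : K) * t) := by
  obtain ⟨-, -, -, -, -, -, h1, h2, h3, -⟩ := chi_eq (q := q) a d
  rw [xBD4, conj3, hel_X _ _ (by norm_num), hel_X _ _ (by norm_num), hel_X _ _ (by norm_num), xBD4, h1, h2, h3]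
  simp only [mul_pow, ← Units.val_pow_eq_pow_val, cB, inv_pow, units_qqq hK, ha, mul_neg]
  congr 2 <;> simp only [Units.val_mul] <;> ring_nf

theorem hel_14 (a d : Kˣ) (t : K) :
    hel q a d * xG certD4 K 14 t * (hel q a d)⁻¹ = xG certD4 K 14 ((cb a d q : K) * t) := by
  rw [hel_X _ _ (by norm_num), (chi_eq a d).2.2.2.2.2.2.2.2.2.1]; rfl

theorem hel_9 (a d : Kˣ) (t : K) :
    hel q a d * xG certD4 K 9 t * (hel q a d)⁻¹ = xG certD4 K 9 (((cb a d q)⁻¹ : Kˣ) * t) := by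
  rw [hel_X _ _ (by norm_num), (chi_eq a d).2.2.2.2.2.2.2.2.2.2.1]
  congr 2
  rw [cb]
  simp [mul_inv_rev, mul_comm, mul_left_comm]

/-! ### additivity and injectivity -/

include hq hK in
theorem add_q (x y : K) : (x + y) ^ q = x ^ q + y ^ q := by simp only [← frD4_apply hq hK, map_add]

theorem xA_add (hq : IsPrimePow q) (hK : Fintype.card K = q ^ 3) (s t : K) :
    xAD4 q s * xAD4 q t = xAD4 q (s + t) := by
  obtain ⟨⟨c1, c2, c3⟩, -⟩ := commD4
  simp only [xAD4, add_q hq hK, ← xG_pow_mul, mul_assoc]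
  rw [(xG_commute certD4 c2 t ((s ^ q) ^ q)).symm.left_comm, (xG_commute certD4 c1 t (s ^ q)).symm.left_comm,
    (xG_commute certD4 c3 (t ^ q) ((s ^ q) ^ q)).symm.left_comm]

include hq hK in
theorem xA_zero : xAD4 q (0 : K) = 1 := by
  have h := xA_add hq hK (0 : K) 0
  rwa [add_zero, mul_eq_left] at h

theorem xA_eq_one {t : K} (h : xAD4 q t = 1) : t = 0 := by
  have e : xG certD4 K 18 t ∈ UL K [18] ⊓ UL K [13, 12] := Subgroup.mem_inf.2 ⟨X_mem (by simp) _, by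
    rw [show xG certD4 K 18 t = (xG certD4 K 13 (t ^ q) * xG certD4 K 12 ((t ^ q) ^ q))⁻¹ from
      eq_inv_of_mul_eq_one_left (by rwa [← mul_assoc])]
    exact inv_mem (mul_mem (X_mem (by simp) _) (X_mem (by simp) _))⟩
  rw [UL_inf (by decide +kernel) (by decide +kernel) (by decide +kernel), Subgroup.mem_bot] at e
  exact (R0 K).xe_inj_param (r := ⟨18, by decide +kernel⟩) (e.trans ((R0 K).xe_zero 18).symm)

include hq hK in
theorem xB_add (s t : K) : xBD4 q s * xBD4 q t = xBD4 q (s + t) := by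
  rw [← nbA_A, ← nbA_A, ← nbA_A, ← xA_add hq hK]; group

theorem xB_eq_one {t : K} (h : xBD4 q t = 1) : t = 0 := by
  rw [← nbA_A, mul_inv_eq_one, mul_eq_left] at h; exact xA_eq_one h

include hq hK in
theorem xM_add (s t : K) : xMD4 q s * xMD4 q t = xMD4 q (s + t) := by
  have e : ∀ x : K, xMD4 q x = naA K * xBD4 q (-(x ^ q)) * (naA K)⁻¹ := fun x => by
    rw [naA_B hq hK, neg_pow_D4 hq hK, neg_pow_D4 hq hK, neg_neg, pow_qqq hK]
  rw [e, e, e, show -((s + t) ^ q) = -(s ^ q) + -(t ^ q) by rw [add_q hq hK, neg_add], ← xB_add hq hK]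
  group

include hq hK in
theorem xM_eq_one {t : K} (h : xMD4 q t = 1) : t = 0 := by
  rw [show xMD4 q t = naA K * xBD4 q (-(t ^ q)) * (naA K)⁻¹ by
    rw [naA_B hq hK, neg_pow_D4 hq hK, neg_pow_D4 hq hK, neg_neg, pow_qqq hK], mul_inv_eq_one, mul_eq_left] at h
  have := xB_eq_one h
  rw [neg_eq_zero] at this
  exact (pow_eq_zero_iff hq.pos.ne').1 this

/-! ### splitting -/

/-- a list is stable under the twisting -/
def stabB (L : List ℕ) : Bool := L.all fun r => L.contains (twAt chevD4 twTD4 r).1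

theorem split {L T : List ℕ} (hn : normB L T = true) (hL : stabB L = true) (hT : stabB T = true)
    (hd : UL K L ⊓ UL K T = ⊥) (hp : ((L ++ T).all fun r => Nat.ble (half chevD4) r) = true)
    {z : ↥(chevD4.group K)} (hz : z ∈ (twD4 hq hK).P1) (hzU : z ∈ UL K (L ++ T)) :
    ∃ a ∈ (twD4 hq hK).P1, a ∈ UL K L ∧ ∃ b ∈ (twD4 hq hK).P1, b ∈ UL K T ∧ z = a * b := by
  rw [UL_append, sup_comm] at hzU
  obtain ⟨b, hb, a, ha, rfl⟩ := exists_mul_of_mem_sup (UL_le_normalizer hn) hzU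
  have hb' : a⁻¹ * b * a ∈ UL K T := by
    have := (Subgroup.mem_normalizer_iff.1 (UL_le_normalizer hn (inv_mem ha)) b).1 hb
    rwa [inv_inv] at this
  obtain ⟨c, hc, rfl⟩ : ∃ c, c ∈ UL K T ∧ b = a * c * a⁻¹ := ⟨_, hb', by group⟩
  have hstab : ∀ {M : List ℕ}, stabB M = true → ∀ g ∈ UL K M, (twD4 hq hK).σ g ∈ UL K M := by
    intro M hM g hg
    simp only [stabB, List.all_eq_true, List.contains_iff_mem] at hM
    exact (twD4 hq hK).toTw.σ_mem_US (S := {r : Fin chevD4.nroots | (r : ℕ) ∈ M})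
      (S' := {r : Fin chevD4.nroots | (r : ℕ) ∈ M}) (fun r hr => hM _ hr) hg
  have e := (twD4 hq hK).hfix _ hz
  rw [show a * c * a⁻¹ * a = a * c by group] at e hz ⊢
  rw [map_mul] at e
  have hmem : a⁻¹ * (twD4 hq hK).σ a ∈ UL K L ⊓ UL K T := Subgroup.mem_inf.2
    ⟨mul_mem (inv_mem ha) (hstab hL a ha), by
      rw [show a⁻¹ * (twD4 hq hK).σ a = c * ((twD4 hq hK).σ c)⁻¹ by
        rw [eq_mul_inv_iff_mul_eq, mul_assoc, e, inv_mul_cancel_left]]
      exact mul_mem hc (inv_mem (hstab hT c hc)) ⟩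
  rw [hd, Subgroup.mem_bot, inv_mul_eq_one] at hmem
  rw [← hmem, mul_right_inj] at e
  simp only [List.all_append, Bool.and_eq_true] at hp
  exact ⟨a, (twD4 hq hK).mem_P1_of_fixed_UP (UL_le_UP hp.1 ha) hmem.symm, ha, c,
    (twD4 hq hK).mem_P1_of_fixed_UP (UL_le_UP hp.2 hc) e, hc, rfl⟩

/-! ### two explicit commutators -/

include hq hK in
theorem comm_22 (t : K) : ⁅xG certD4 K 22 t, xG certD4 K 14 1⁆ = xG certD4 K 23 (-t) := by
  obtain ⟨-, -, -, ⟨-, f2, -⟩⟩ := termsD4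
  have h := xG_swap_one certD4 f2 (-t) (-1 : K)
  have hneg : ∀ k (x : K), xG certD4 K k (-x) = (xG certD4 K k x)⁻¹ := fun k x => (R0 K).xe_neg k x
  rw [show -(((-1 : ℤ) : K) * -t * -1) = t by push_cast; ring, hneg, hneg] at h
  rw [hneg, commutatorElement_def]
  generalize xG certD4 K 22 t = x, xG certD4 K 14 (1 : K) = y, xG certD4 K 23 t = z at h ⊢
  rw [show z = (x⁻¹ * y⁻¹)⁻¹ * (y⁻¹ * x⁻¹) by rw [h]; group]
  group

end CfsgLib.Lie.Chev.TwGroups.D4Mult
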