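import Cfsg.Agent.Lib.Lie.Twisted.D4Mult.Facts
import Cfsg.Agent.Lib.Lie.Twisted.G2Cover.Basic

/-!
# The root subgroups inside the triality group
-/

set_option autoImplicit false

namespace CfsgLib.Lie.Chev.TwGroups.D4Mult

open Cfsg.Lie
open CfsgLib.Lie.G2Cover (cj mem_cj)
open scoped commutatorElement

variable {K : Type*} [Field K] [Fintype K] {q : ℕ} (hq : IsPrimePow q) (hK : Fintype.card K = q ^ 3)

/-- the triality group inside the Chevalley group -/
noncomputable abbrev GP : Subgroup ↥(chevD4.group K) := (twD4 hq hK).P1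

/-- the span of a root list, inside the triality group -/
noncomputable def SB (L : List ℕ) : Subgroup ↥(GP hq hK) := (UL K L).subgroupOf (GP hq hK)

/-- the torus, inside the triality group -/
noncomputable def HB : Subgroup ↥(GP hq hK) := (R0 K).HS.subgroupOf (GP hq hK)

/-- `naA` in the triality group -/
noncomputable def naP : ↥(GP hq hK) := ⟨naA K, naA_mem hq hK⟩

/-- `nbA` in the triality group -/
noncomputable def nbP : ↥(GP hq hK) := ⟨nbA K, nbA_mem hq hK⟩

/-- a positive long simple root element -/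
noncomputable def p2P : ↥(GP hq hK) := ⟨xG certD4 K 14 1, x14_mem hq hK (one_pow q)⟩

/-- a negative long simple root element -/
noncomputable def p5P : ↥(GP hq hK) := ⟨xG certD4 K 9 (-1), x9_mem hq hK (neg_one_fix hq hK)⟩

theorem mem_SB {L : List ℕ} {x : ↥(GP hq hK)} : x ∈ SB hq hK L ↔ (x : ↥(chevD4.group K)) ∈ UL K L := Iff.rfl

theorem mem_HB {x : ↥(GP hq hK)} : x ∈ HB hq hK ↔ (x : ↥(chevD4.group K)) ∈ (R0 K).HS := Iff.rfl

/-- torus elements of the triality group -/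
noncomputable def hP {a : Kˣ} (ha : a ^ q = a) (d : Kˣ) : ↥(GP hq hK) := ⟨hel q a d, (hel_mem hq hK ha d).1⟩

theorem hP_mem {a : Kˣ} (ha : a ^ q = a) (d : Kˣ) : hP hq hK ha d ∈ HB hq hK := (hel_mem hq hK ha d).2

theorem exists_hP {h : ↥(GP hq hK)} (hh : h ∈ HB hq hK) :
    ∃ (a : Kˣ) (ha : a ^ q = a) (d : Kˣ), h = hP hq hK ha d := by
  obtain ⟨a, d, ha, e⟩ := exists_hel hq hK h.2 hh
  exact ⟨a, ha, d, Subtype.ext e⟩

theorem HB_comm : ∀ x ∈ HB hq hK, ∀ y ∈ HB hq hK, x * y = y * x := by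
  intro x hx y hy
  obtain ⟨a, ha, d, rfl⟩ := exists_hP hq hK hx
  obtain ⟨b, hb, c, rfl⟩ := exists_hP hq hK hy
  exact Subtype.ext (by
    show hel q a d * hel q b c = hel q b c * hel q a d
    rw [hel_mul, hel_mul, mul_comm a, mul_comm d])

theorem HB_cj {h : ↥(GP hq hK)} (hh : h ∈ HB hq hK) (L : List ℕ) : cj h (SB hq hK L) = SB hq hK L := by
  ext x
  rw [mem_cj, mem_SB, mem_SB]
  push_cast
  constructor <;> intro hx
  · have := HS_conj_UL hh hx
    simpa [mul_assoc] using this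
  · have := HS_conj_UL (inv_mem hh) hx
    simpa [mul_assoc] using this

theorem cj_HB {n : ↥(GP hq hK)} (hn : (n : ↥(chevD4.group K)) ∈ (R0 K).NS) :
    cj n (HB hq hK) = HB hq hK := by
  ext x
  rw [mem_cj, mem_HB, mem_HB]
  push_cast
  constructor <;> intro hx
  · have := (R0 K).HS_conj hn hx
    simpa [mul_assoc] using this
  · have := (R0 K).HS_conj (inv_mem hn) hx
    simpa [mul_assoc] using this

theorem cj_naP {L M : List ℕ} (h1 : (L.all fun r => M.contains (wA r)) = true)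
    (h2 : (M.all fun r => L.contains (wA r)) = true) : cj (naP hq hK) (SB hq hK L) = SB hq hK M := by
  ext x
  rw [mem_cj, mem_SB, mem_SB]
  simp only [Subgroup.coe_mul, Subgroup.coe_inv, naP]
  constructor <;> intro hx
  · have := perm_UL_A h1 hx
    simpa [mul_assoc] using this
  · have := HS_conj_UL (inv_mem sq_mem_HS.1) (perm_UL_A h2 hx)
    simpa [mul_assoc, mul_inv_rev] using this

theorem cj_nbP {L M : List ℕ} (h1 : (L.all fun r => M.contains (wB r)) = true)
    (h2 : (M.all fun r => L.contains (wB r)) = true) : cj (nbP hq hK) (SB hq hK L) = SB hq hK M := by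
  ext x
  rw [mem_cj, mem_SB, mem_SB]
  simp only [Subgroup.coe_mul, Subgroup.coe_inv, nbP]
  constructor <;> intro hx
  · have := perm_UL_B h1 hx
    simpa [mul_assoc] using this
  · have := HS_conj_UL (inv_mem sq_mem_HS.2) (perm_UL_B h2 hx)
    simpa [mul_assoc, mul_inv_rev] using this

theorem cj_naP_s (k : ZMod 6) : cj (naP hq hK) (SB hq hK (sL k)) = SB hq hK (sL (3 - k)) := by
  refine cj_naP hq hK (permTab.1 k).1 ?_
  have := (permTab.1 (3 - k)).1
  rwa [sub_sub_cancel] at this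

theorem cj_naP_l (k : ZMod 6) : cj (naP hq hK) (SB hq hK (lL k)) = SB hq hK (lL (2 - k)) := by
  refine cj_naP hq hK (permTab.1 k).2.1 ?_
  have := (permTab.1 (2 - k)).2.1
  rwa [sub_sub_cancel] at this

theorem cj_nbP_s (k : ZMod 6) : cj (nbP hq hK) (SB hq hK (sL k)) = SB hq hK (sL (2 - k)) := by
  refine cj_nbP hq hK (permTab.1 k).2.2.1 ?_
  have := (permTab.1 (2 - k)).2.2.1
  rwa [sub_sub_cancel] at this

theorem cj_nbP_l (k : ZMod 6) : cj (nbP hq hK) (SB hq hK (lL k)) = SB hq hK (lL (1 - k)) := by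
  refine cj_nbP hq hK (permTab.1 k).2.2.2 ?_
  have := (permTab.1 (1 - k)).2.2.2
  rwa [sub_sub_cancel] at this

/-! ### spans and joins -/

theorem SB_sup_le (L M : List ℕ) : SB hq hK L ⊔ SB hq hK M ≤ SB hq hK (L ++ M) :=
  sup_le (fun _ hx => mem_SB hq hK |>.2 (UL_mono (fun _ h => List.mem_append_left _ h) hx))
    fun _ hx => mem_SB hq hK |>.2 (UL_mono (fun _ h => List.mem_append_right _ h) hx)

/-- the checks for a splitting -/
def splitB (L T : List ℕ) : Bool :=
  normB L T && stabB L && stabB T && (L ++ T).all (fun r => Nat.ble (half chevD4) r) && closedB L && closedB T &&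
    L.all fun r => !T.contains r

theorem SB_append_le {L T : List ℕ} (h : splitB L T = true) : SB hq hK (L ++ T) ≤ SB hq hK L ⊔ SB hq hK T := by
  simp only [splitB, Bool.and_eq_true] at h
  obtain ⟨⟨⟨⟨⟨⟨h1, h2⟩, h3⟩, h4⟩, h5⟩, h6⟩, h7⟩ := h
  intro x hx
  obtain ⟨a, ha, haL, b, hb, hbT, e⟩ := split hq hK h1 h2 h3 (UL_inf h5 h6 h7) h4 x.2 hx
  rw [show x = (⟨a, ha⟩ : ↥(GP hq hK)) * ⟨b, hb⟩ from Subtype.ext e]
  exact mul_mem (Subgroup.mem_sup_left haL) (Subgroup.mem_sup_right hbT)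

theorem SB_inf {L M : List ℕ} (h1 : closedB L = true) (h2 : closedB M = true)
    (h3 : (L.all fun r => !M.contains r) = true) : SB hq hK L ⊓ SB hq hK M = ⊥ :=
  (Subgroup.eq_bot_iff_forall _).2 fun x hx => Subtype.ext (Subgroup.mem_bot.1
    ((UL_inf (K := K) h1 h2 h3) ▸ Subgroup.mem_inf.2 ⟨(Subgroup.mem_inf.1 hx).1, (Subgroup.mem_inf.1 hx).2⟩))

theorem SB_comm {L M : List ℕ} (h : commB L M [] = true) :
    ∀ x ∈ SB hq hK L, ∀ y ∈ SB hq hK M, x * y = y * x :=
  fun _ hx _ hy => Subtype.ext (commute_UL h hx hy)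

theorem SB_comm_mem {L M T : List ℕ} (h : commB L M T = true) {x y : ↥(GP hq hK)} (hx : x ∈ SB hq hK L)
    (hy : y ∈ SB hq hK M) : ⁅x, y⁆ ∈ SB hq hK T := comm_UL h hx hy

/-- transfer from the ambient group -/
theorem mem_of_map {W : Subgroup ↥(GP hq hK)} {x : ↥(GP hq hK)}
    (h : (x : ↥(chevD4.group K)) ∈ W.map (GP hq hK).subtype) : x ∈ W := by
  obtain ⟨y, hy, e⟩ := Subgroup.mem_map.1 h
  rwa [Subtype.ext e] at hy

theorem xA_mem_sL0 (t : K) : xAD4 q t ∈ UL K (sL 0) :=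
  mul_mem (mul_mem (X_mem (List.mem_cons_self ..) _) (X_mem (List.mem_cons_of_mem _ (List.mem_cons_self ..)) _))
    (X_mem (List.mem_cons_of_mem _ (List.mem_cons_of_mem _ (List.mem_cons_self ..))) _)

theorem xND4_mem_sL3 (t : K) : xND4 q t ∈ UL K (sL 3) :=
  mul_mem (mul_mem (X_mem (List.mem_cons_self ..) _) (X_mem (List.mem_cons_of_mem _ (List.mem_cons_self ..)) _))
    (X_mem (List.mem_cons_of_mem _ (List.mem_cons_of_mem _ (List.mem_cons_self ..))) _)

/-- an element of the short class -/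
noncomputable def aP (t : K) : ↥(GP hq hK) := ⟨xAD4 q t, (classes_mem_P1 hq hK t).1⟩

/-- an element of the class of `α + β` -/
noncomputable def bP (t : K) : ↥(GP hq hK) := ⟨xBD4 q t, (classes_mem_P1 hq hK t).2.1⟩

/-- an element of the class of `2α + β` -/
noncomputable def mP (t : K) : ↥(GP hq hK) := ⟨xMD4 q t, (classes_mem_P1 hq hK t).2.2⟩

/-- an element of the negative short class -/
noncomputable def nP (t : K) : ↥(GP hq hK) := ⟨xND4 q t, xND4_mem hq hK t⟩

theorem aP_mem (t : K) : aP hq hK t ∈ SB hq hK (sL 0) := xA_mem_sL0 t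

theorem bP_mem (t : K) : bP hq hK t ∈ SB hq hK (sL 2) :=
  show xBD4 q t ∈ UL K (sL 2) from
    mul_mem (mul_mem (X_mem (List.mem_cons_self ..) _) (X_mem (List.mem_cons_of_mem _ (List.mem_cons_self ..)) _))
      (X_mem (List.mem_cons_of_mem _ (List.mem_cons_of_mem _ (List.mem_cons_self ..))) _)

theorem mP_mem (t : K) : mP hq hK t ∈ SB hq hK (sL 1) :=
  show xMD4 q t ∈ UL K (sL 1) from
    mul_mem (mul_mem (X_mem (List.mem_cons_self ..) _) (X_mem (List.mem_cons_of_mem _ (List.mem_cons_self ..)) _))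
      (X_mem (List.mem_cons_of_mem _ (List.mem_cons_of_mem _ (List.mem_cons_self ..))) _)

theorem exists_aP {x : ↥(GP hq hK)} (hx : x ∈ SB hq hK (sL 0)) : ∃ t, x = aP hq hK t := by
  obtain ⟨t, e⟩ := param_A hq hK x.2 hx; exact ⟨t, Subtype.ext e⟩

theorem exists_bP {x : ↥(GP hq hK)} (hx : x ∈ SB hq hK (sL 2)) : ∃ t, x = bP hq hK t := by
  obtain ⟨t, e⟩ := param_B hq hK x.2 hx; exact ⟨t, Subtype.ext e⟩

theorem exists_mP {x : ↥(GP hq hK)} (hx : x ∈ SB hq hK (sL 1)) : ∃ t, x = mP hq hK t := by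
  obtain ⟨t, e⟩ := param_M hq hK x.2 hx; exact ⟨t, Subtype.ext e⟩

/-- the group of rank one -/
noncomputable def MA : Subgroup ↥(GP hq hK) := SB hq hK (sL 0) ⊔ SB hq hK (sL 3)

theorem naP_mem_MA : naP hq hK ∈ MA hq hK ∧ naP hq hK = aP hq hK 1 * nP hq hK (-1) * aP hq hK 1 ∧
    ∀ d : Kˣ, hP hq hK (one_pow q) d ∈ MA hq hK := by
  have h := triple_mem_of hq hK ((MA hq hK).map (GP hq hK).subtype)
    (fun t => ⟨aP hq hK t, Subgroup.mem_sup_left (aP_mem hq hK t), rfl⟩)
    (fun t => ⟨nP hq hK t, Subgroup.mem_sup_right (xND4_mem_sL3 t), rfl⟩)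
  exact ⟨mem_of_map hq hK h.1, Subtype.ext h.2.1, fun d => mem_of_map hq hK (by
    show hel q 1 d ∈ _
    rw [hel_one_eq]
    exact h.2.2 _)⟩

end CfsgLib.Lie.Chev.TwGroups.D4Mult
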