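import Cfsg.Agent.Lib.Lie.Twisted.D4Mult.Rigid
import Cfsg.Agent.Lib.Lie.Rel.SL2
import Cfsg.Agent.Lib.Classical.PSLTwoSimple
import Cfsg.Agent.Lib.Known.SL2Multiplier

/-!
# The subgroup of rank one is a special linear group
-/

set_option autoImplicit false

namespace CfsgLib.Lie.Chev.TwGroups.D4Mult

open Cfsg.Lie
open scoped MatrixGroups

variable {K : Type*} [Field K] [Fintype K] {q : ℕ} (hq : IsPrimePow q) (hK : Fintype.card K = q ^ 3)

/-- a root of type D4 -/
def rtD (n : ℕ) (hn : n < 24) : Fin chevD4.nroots := ⟨n, lt_of_lt_of_eq hn (by decide +kernel)⟩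

theorem rtD_val (n : ℕ) (hn : n < 24) : (rtD n hn : ℕ) = n := rfl

theorem slTab : chevD4.neg 18 = 5 ∧ chevD4.neg 13 = 10 ∧ chevD4.neg 12 = 11 ∧
    commB [18, 5] [13, 10] [] = true ∧ commB [18, 5] [12, 11] [] = true ∧ commB [13, 10] [12, 11] [] = true := by
  decide +kernel

omit [Fintype K] in
theorem slHom_mem {r : Fin chevD4.nroots} {a b : ℕ} (ha : (r : ℕ) = a) (hb : chevD4.neg a = b) (g : SL(2, K)) :
    (R0 K).slHom r g ∈ UL K [a, b] := by
  have h : (R0 K).slHom r g ∈ ((R0 K).slHom r).range := ⟨g, rfl⟩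
  rw [Rel.slHom_range] at h
  refine (sup_le ?_ ?_ : _ ≤ UL K [a, b]) h <;> rw [Subgroup.closure_le] <;> rintro _ ⟨t, rfl⟩
  · rw [ha]; exact X_mem (List.mem_cons_self ..) t
  · show (R0 K).xe (chevD4.neg r) t ∈ UL K [a, b]
    rw [ha, hb]; exact X_mem (List.mem_cons_of_mem _ (List.mem_cons_self ..)) t

/-- the product of three homomorphisms with commuting images -/
def hom3 {M G : Type*} [Group M] [Group G] (f g h : M →* G) (k1 : ∀ x y, Commute (f x) (g y))
    (k2 : ∀ x y, Commute (f x) (h y)) (k3 : ∀ x y, Commute (g x) (h y)) : M →* G where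
  toFun x := f x * (g x * h x)
  map_one' := by simp
  map_mul' x y := by
    simp only [map_mul]
    rw [(k3 y x).mul_mul_mul_comm, ((k1 y x).mul_right (k2 y x)).mul_mul_mul_comm]

/-- the map from `SL₂` of the big field onto the short rank one subgroup -/
noncomputable def phiSL : SL(2, K) →* ↥(chevD4.group K) :=
  hom3 ((R0 K).slHom (rtD 18 (by norm_num)))
    (((R0 K).slHom (rtD 13 (by norm_num))).comp (Matrix.SpecialLinearGroup.map (frD4 hq hK)))
    (((R0 K).slHom (rtD 12 (by norm_num))).comp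
      ((Matrix.SpecialLinearGroup.map (frD4 hq hK)).comp (Matrix.SpecialLinearGroup.map (frD4 hq hK))))
    (fun x y => commute_UL slTab.2.2.2.1 (slHom_mem (a := 18) (b := 5) (rtD_val _ _) slTab.1 x) (slHom_mem (a := 13) (b := 10) (rtD_val _ _) slTab.2.1 _))
    (fun x y => commute_UL slTab.2.2.2.2.1 (slHom_mem (a := 18) (b := 5) (rtD_val _ _) slTab.1 x) (slHom_mem (a := 12) (b := 11) (rtD_val _ _) slTab.2.2.1 _))
    (fun x y => commute_UL slTab.2.2.2.2.2 (slHom_mem (a := 13) (b := 10) (rtD_val _ _) slTab.2.1 _) (slHom_mem (a := 12) (b := 11) (rtD_val _ _) slTab.2.2.1 _))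

theorem phiSL_apply (g : SL(2, K)) : phiSL hq hK g = (R0 K).slHom (rtD 18 (by norm_num)) g *
    ((R0 K).slHom (rtD 13 (by norm_num)) (Matrix.SpecialLinearGroup.map (frD4 hq hK) g) *
      (R0 K).slHom (rtD 12 (by norm_num))
        (Matrix.SpecialLinearGroup.map (frD4 hq hK) (Matrix.SpecialLinearGroup.map (frD4 hq hK) g))) := rfl

theorem phiSL_upper (t : K) (g : SL(2, K)) (hg : g.1 = !![1, t; 0, 1]) : phiSL hq hK g = xAD4 q t := by
  have e : ∀ (r : Fin chevD4.nroots) (u : K) (g : SL(2, K)), g.1 = !![1, u; 0, 1] →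
      (R0 K).slHom r g = (R0 K).xe r u := fun r u g h => by
    show (R0 K).slMap r g = _
    rw [show g = Rel.slX u from Subtype.ext h, Rel.slMap_slX]
  have m : ∀ (u : K) (g : SL(2, K)), g.1 = !![1, u; 0, 1] →
      (Matrix.SpecialLinearGroup.map (frD4 hq hK) g).1 = !![1, u ^ q; 0, 1] := fun u g h => by
    ext i j
    simp only [Matrix.SpecialLinearGroup.map_apply_coe, RingHom.mapMatrix_apply, h, Matrix.map_apply]
    fin_cases i <;> fin_cases j <;> simp [frD4_apply, hq.pos.ne']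
  rw [phiSL_apply, e _ t g hg, e _ _ _ (m _ _ hg), e _ _ _ (m _ _ (m _ _ hg)),
    ← mul_assoc]
  rfl

theorem phiSL_lower (t : K) (g : SL(2, K)) (hg : g.1 = !![1, 0; t, 1]) : phiSL hq hK g = xND4 q t := by
  obtain ⟨n1, n2, n3, -⟩ := slTab
  have e : ∀ (r : Fin chevD4.nroots) (a b : ℕ), (r : ℕ) = a → chevD4.neg a = b → ∀ (u : K) (g : SL(2, K)),
      g.1 = !![1, 0; u, 1] → (R0 K).slHom r g = xG certD4 K b u := fun r a b ha hb u g h => by
    rw [Rel.slHom_lower (R0 K) r u g h, show (((R0 K).negF r : Fin _) : ℕ) = b by show chevD4.neg r = b; rw [ha, hb]]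
    rfl
  have m : ∀ (u : K) (g : SL(2, K)), g.1 = !![1, 0; u, 1] →
      (Matrix.SpecialLinearGroup.map (frD4 hq hK) g).1 = !![1, 0; u ^ q, 1] := fun u g h => by
    ext i j
    simp only [Matrix.SpecialLinearGroup.map_apply_coe, RingHom.mapMatrix_apply, h, Matrix.map_apply]
    fin_cases i <;> fin_cases j <;> simp [frD4_apply, hq.pos.ne']
  rw [phiSL_apply, e (rtD 18 (by norm_num)) _ _ rfl n1 t g hg,
    e (rtD 13 (by norm_num)) _ _ rfl n2 _ _ (m _ _ hg), e (rtD 12 (by norm_num)) _ _ rfl n3 _ _ (m _ _ (m _ _ hg)),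
    ← mul_assoc]
  rfl

theorem phiSL_diag (a : Kˣ) (g : SL(2, K)) (hg : g.1 = !![(a : K), 0; 0, (a : K)⁻¹]) :
    phiSL hq hK g = hel q 1 a := by
  have e : ∀ (r : Fin chevD4.nroots) (u : K) (g : SL(2, K)), g.1 = !![u, 0; 0, u⁻¹] →
      (R0 K).slHom r g = (R0 K).he r u := fun r u g h => by
    show (R0 K).slEval r (g.1 0 0) (g.1 0 1) (g.1 1 0) (g.1 1 1) = _
    simp [h, Rel.slEval, (R0 K).xe_zero]
  have m : ∀ (u : K) (g : SL(2, K)), g.1 = !![u, 0; 0, u⁻¹] →
      (Matrix.SpecialLinearGroup.map (frD4 hq hK) g).1 = !![u ^ q, 0; 0, (u ^ q)⁻¹] := fun u g h => by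
    ext i j
    simp only [Matrix.SpecialLinearGroup.map_apply_coe, RingHom.mapMatrix_apply, h, Matrix.map_apply]
    fin_cases i <;> fin_cases j <;> simp [frD4_apply, hq.pos.ne']
  rw [phiSL_apply, e _ _ g hg, e _ _ _ (m _ _ hg), e _ _ _ (m _ _ (m _ _ hg)),
    hel_one_eq]
  rfl

theorem phiSL_range :
    (phiSL hq hK).range = (MA hq hK).map (GP hq hK).subtype := by
  obtain ⟨hna, hna', -⟩ := naP_mem_MA hq hK
  have hA : ∀ t : K, xAD4 q t ∈ (phiSL hq hK).range := fun t =>
    ⟨⟨!![1, t; 0, 1], by simp [Matrix.det_fin_two]⟩, phiSL_upper hq hK t _ rfl⟩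
  have hN : ∀ t : K, xND4 q t ∈ (phiSL hq hK).range := fun t =>
    ⟨⟨!![1, 0; t, 1], by simp [Matrix.det_fin_two]⟩, phiSL_lower hq hK t _ rfl⟩
  refine le_antisymm ?_ ?_
  · have key : ((MA hq hK).map (GP hq hK).subtype).comap (phiSL hq hK) = ⊤ := by
      refine CfsgLib.Classical.closure_transvection_eq_top _ fun i j hij c => ?_
      rw [Subgroup.mem_comap]
      have cases2 : (i = 0 ∧ j = 1) ∨ (i = 1 ∧ j = 0) := by revert hij; fin_cases i <;> fin_cases j <;> simp
      rcases cases2 with ⟨rfl, rfl⟩ | ⟨rfl, rfl⟩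
      · rw [phiSL_upper hq hK c _ (by
          ext a b; fin_cases a <;> fin_cases b <;> simp [Matrix.SpecialLinearGroup.transvection, Matrix.transvection])]
        exact ⟨aP hq hK c, Subgroup.mem_sup_left (aP_mem hq hK c), rfl⟩
      · rw [phiSL_lower hq hK c _ (by
          ext a b; fin_cases a <;> fin_cases b <;> simp [Matrix.SpecialLinearGroup.transvection, Matrix.transvection])]
        exact ⟨nP hq hK c, Subgroup.mem_sup_right (xND4_mem_sL3 c), rfl⟩
    rintro _ ⟨g, rfl⟩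
    have : g ∈ ((MA hq hK).map (GP hq hK).subtype).comap (phiSL hq hK) := key ▸ Subgroup.mem_top g
    exact this
  · rw [Subgroup.map_le_iff_le_comap, MA, sup_le_iff]
    have hn : naA K ∈ (phiSL hq hK).range := by
      rw [show naA K = xAD4 q 1 * xND4 q (-1) * xAD4 q 1 from congrArg Subtype.val hna']
      exact mul_mem (mul_mem (hA _) (hN _)) (hA _)
    constructor <;> intro x hx
    · obtain ⟨t, rfl⟩ := exists_aP hq hK hx
      exact hA t
    · rw [show (3 : ZMod 6) = 3 - 0 by decide, ← cj_naP_s, CfsgLib.Lie.G2Cover.mem_cj] at hx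
      obtain ⟨t, e⟩ := exists_aP hq hK hx
      rw [show x = naP hq hK * aP hq hK t * (naP hq hK)⁻¹ by rw [← e]; group]
      exact mul_mem (mul_mem hn (hA t)) (inv_mem hn)

theorem phiSL_injective : Function.Injective (phiSL hq hK) := by
  rw [← MonoidHom.ker_eq_bot_iff, Subgroup.eq_bot_iff_forall]
  have h4 : 4 ≤ Fintype.card K := le_trans (by norm_num) (card_ge hq hK)
  have := CfsgLib.Classical.isSimpleGroup_PSL_two (F := K) h4
  have hN : ((phiSL hq hK).ker.map (QuotientGroup.mk' (Subgroup.center SL(2, K)))).Normal :=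
    Subgroup.Normal.map inferInstance _ (QuotientGroup.mk'_surjective _)
  have hX : (phiSL hq hK) ⟨!![1, 1; 0, 1], by simp [Matrix.det_fin_two]⟩ ≠ 1 := by
    exact fun h => one_ne_zero (α := K) (xA_eq_one ((phiSL_upper hq hK 1 _ rfl).symm.trans h))
  rcases hN.eq_bot_or_eq_top with h | h
  · intro g hg
    rw [Subgroup.map_eq_bot_iff, QuotientGroup.ker_mk'] at h
    obtain ⟨r, hr, e⟩ := Matrix.SpecialLinearGroup.mem_center_iff.1 (h hg)
    rw [Fintype.card_fin] at hr
    have hr0 : r ≠ 0 := fun z => by simp [z] at hr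
    have hinv : r⁻¹ = r := inv_eq_of_mul_eq_one_left (by rw [← sq, hr])
    have hgm : g.1 = !![((Units.mk0 r hr0 : Kˣ) : K), 0; 0, ((Units.mk0 r hr0 : Kˣ) : K)⁻¹] := by
      rw [← e]; ext i j; fin_cases i <;> fin_cases j <;> simp [hinv]
    have h1 : hel q 1 (Units.mk0 r hr0) = 1 := by rw [← phiSL_diag hq hK _ g hgm]; exact hg
    have h2 : psiD4 K q (⟨1, one_mem _⟩, Units.mk0 r hr0) = psiD4 K q 1 := by rw [map_one]; exact h1
    have h3 := congrArg (fun x => ((Prod.snd x : Kˣ) : K)) (psiD4_injective hq hK h2)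
    simp only [Units.val_mk0, Prod.snd_one, Units.val_one] at h3
    refine Subtype.ext ?_
    rw [← e, h3]; simp
  · refine absurd ?_ hX
    have hsup : (phiSL hq hK).ker ⊔ Subgroup.center SL(2, K) = ⊤ := by
      have := congrArg (Subgroup.comap (QuotientGroup.mk' (Subgroup.center SL(2, K)))) h
      rwa [Subgroup.comap_map_eq, QuotientGroup.ker_mk', Subgroup.comap_top] at this
    have hc : commutator SL(2, K) ≤ (phiSL hq hK).ker := by
      rw [commutator_def, Subgroup.commutator_le]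
      intro x _ y _
      have hs : ∀ z : SL(2, K), ∃ k ∈ (phiSL hq hK).ker, ∃ c ∈ Subgroup.center SL(2, K), z = k * c := fun z => by
        have hz : z ∈ (phiSL hq hK).ker ⊔ Subgroup.center SL(2, K) := hsup ▸ Subgroup.mem_top z
        rw [← SetLike.mem_coe, Subgroup.normal_mul] at hz
        obtain ⟨k, hk, c, hc, rfl⟩ := hz
        exact ⟨k, hk, c, hc, rfl⟩
      obtain ⟨k, hk, c, hc, rfl⟩ := hs x
      obtain ⟨k', hk', c', hc', rfl⟩ := hs y
      have e1 : phiSL hq hK c * phiSL hq hK c' = phiSL hq hK c' * phiSL hq hK c := by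
        rw [← map_mul, ← map_mul, Subgroup.mem_center_iff.1 hc c']
      rw [MonoidHom.mem_ker] at hk hk' ⊢
      simp only [map_commutatorElement, map_mul, hk, hk', one_mul]
      exact commutatorElement_eq_one_iff_mul_comm.2 e1
    rw [CfsgLib.Classical.commutator_SL_two_eq_top h4] at hc
    exact hc (Subgroup.mem_top _)

theorem mult_MA : Cfsg.HasCyclicSchurMultiplier ↥(MA hq hK) 1 := by
  have h8 := card_ge hq hK
  have h9 : Fintype.card K ≠ 9 := by
    rw [hK]
    intro h
    rcases Nat.lt_or_ge q 3 with hlt | hge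
    · interval_cases q <;> simp at h
    · have := Nat.pow_le_pow_left hge 3; omega
  refine CfsgLib.Known.SL2Mult.hasCyclicSchurMultiplier_one_congr ?_
    (CfsgLib.Known.SL2Mult.hasCyclicSchurMultiplier_SL_two (F := K) (by omega) h9)
  exact ((MonoidHom.ofInjective (phiSL_injective hq hK)).trans (MulEquiv.subgroupCongr (phiSL_range hq hK))).trans
    (Subgroup.equivMapOfInjective _ _ (GP hq hK).subtype_injective).symm

end CfsgLib.Lie.Chev.TwGroups.D4Mult
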