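import Cfsg.Agent.Lib.Lie.Twisted.D4Mult.Torus
import Cfsg.Agent.Lib.Lie.Twisted.D4Mult.SL
import Cfsg.Agent.Lib.Lie.Twisted.G2Cover.Main

/-!
# The triality twisted groups have trivial multiplier
-/

set_option autoImplicit false

namespace CfsgLib.Lie.Chev.TwGroups.D4Mult

open Cfsg.Lie
open CfsgLib.Lie.G2Cover (cj mem_cj)
open scoped commutatorElement

variable {K : Type*} [Field K] [Fintype K] {q : ℕ} (hq : IsPrimePow q) (hK : Fintype.card K = q ^ 3)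

theorem distTab :
    closedB (sL 0) = true ∧ closedB (sL 1) = true ∧ closedB (sL 2) = true ∧
    ((sL 0).all fun r => !(sL 1).contains r) = true ∧ ((sL 0).all fun r => !(sL 2).contains r) = true ∧
    ((sL 0).all fun r => Nat.ble (half chevD4) r) = true ∧ ((sL 3).all fun r => Nat.blt r (half chevD4)) = true ∧
    ((sL 4).all fun r => Nat.blt r (half chevD4)) = true ∧ ((sL 5).all fun r => Nat.blt r (half chevD4)) = true := by
  decide +kernel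

theorem sys_dist : ∀ j k, SB hq hK (sL j) = SB hq hK (sL k) → j = k := by
  have shift : ∀ j k, SB hq hK (sL j) = SB hq hK (sL k) → SB hq hK (sL (j + 1)) = SB hq hK (sL (k + 1)) := by
    intro j k h
    have := congrArg (fun U => cj (naP hq hK) (cj (nbP hq hK) U)) h
    simp only [cj_nbP_s, cj_naP_s] at this
    rwa [show 3 - (2 - j) = j + 1 by ring, show 3 - (2 - k) = k + 1 by ring] at this
  have iter : ∀ (n : ℕ) j k, SB hq hK (sL j) = SB hq hK (sL k) →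
      SB hq hK (sL (j + n)) = SB hq hK (sL (k + n)) := fun n => by
    induction n with
    | zero => intro j k h; simpa using h
    | succ n ih => intro j k h; have := shift _ _ (ih j k h); push_cast; rwa [← add_assoc, ← add_assoc]
  have ha : aP hq hK 1 ≠ 1 := fun h => one_ne_zero (α := K) (xA_eq_one (congrArg Subtype.val h))
  have base : ∀ d, SB hq hK (sL 0) = SB hq hK (sL d) → d = 0 := by
    intro d h
    by_contra hd
    have hm : aP hq hK 1 ∈ SB hq hK (sL d) := h ▸ aP_mem hq hK 1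
    obtain ⟨t0, t1, t2, t3, t4, t5, t6, t7, t8⟩ := distTab
    have hpos : (aP hq hK (1 : K) : ↥(chevD4.group K)) ∈ (R0 K).BS :=
      (R0 K).UP_le_BS (UL_le_UP t5 (aP_mem hq hK 1))
    have neg : ∀ L : List ℕ, (L.all fun r => Nat.blt r (half chevD4)) = true → aP hq hK 1 ∈ SB hq hK L → False :=
      fun L hL hx => ha (Subtype.ext ((R0 K).BS_inf_UN hpos (UL_le_UN hL hx)))
    have pos : ∀ L : List ℕ, closedB L = true → ((sL 0).all fun r => !L.contains r) = true →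
        aP hq hK 1 ∈ SB hq hK L → False := fun L hc hdis hx => ha (Subgroup.mem_bot.1
          (SB_inf hq hK t0 hc hdis ▸ Subgroup.mem_inf.2 ⟨aP_mem hq hK 1, hx⟩))
    obtain rfl | rfl | rfl | rfl | rfl : d = 1 ∨ d = 2 ∨ d = 3 ∨ d = 4 ∨ d = 5 := (show ∀ d : ZMod 6, d ≠ 0 → d = 1 ∨ d = 2 ∨ d = 3 ∨ d = 4 ∨ d = 5 by decide) d hd
    · exact pos _ t1 t3 hm
    · exact pos _ t2 t4 hm
    · exact neg _ t6 hm
    · exact neg _ t7 hm
    · exact neg _ t8 hm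
  intro j k h
  have := iter (-j).val j k h
  rw [ZMod.natCast_zmod_val, add_neg_cancel] at this
  exact (neg_add_eq_zero.1 (by rw [add_comm]; exact base _ this))

theorem genLe : GP hq hK ≤
    (MA hq hK ⊔ (SB hq hK (lL 2) ⊔ SB hq hK (lL 5))).map (GP hq hK).subtype := by
  show (twistedD4 K q).subgroupOf (chevD4.group K) ≤ _
  rw [show (twistedD4 K q).subgroupOf (chevD4.group K) = Subgroup.closure (wordG certD4 '' d4Words K q) from
    genSubgroup_subgroupOf certD4 _, Subgroup.closure_le]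
  rintro _ ⟨w, hw, rfl⟩
  rcases hw with ⟨t, ht, r, hr, rfl⟩ | ⟨t, rs, hrs, rfl⟩
  · simp only [List.mem_cons, List.not_mem_nil, or_false, d4p2, d4m2] at hr
    simp only [wordG_cons, wordG_nil, mul_one]
    rcases hr with rfl | rfl
    · exact ⟨⟨_, x14_mem hq hK ht⟩, Subgroup.mem_sup_right (Subgroup.mem_sup_left
        (X_mem (List.mem_cons_self ..) t)), rfl⟩
    · exact ⟨⟨_, x9_mem hq hK ht⟩, Subgroup.mem_sup_right (Subgroup.mem_sup_right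
        (X_mem (List.mem_cons_self ..) t)), rfl⟩
  · simp only [List.mem_cons, List.not_mem_nil, or_false, d4p1, d4p3, d4p4, d4m1, d4m3, d4m4] at hrs
    simp only [wordG_cons, wordG_nil, mul_one, sq, pow_mul, ← mul_assoc]
    rcases hrs with rfl | rfl
    · exact ⟨aP hq hK t, Subgroup.mem_sup_left (Subgroup.mem_sup_left (aP_mem hq hK t)), rfl⟩
    · exact ⟨nP hq hK t, Subgroup.mem_sup_left (Subgroup.mem_sup_right (xND4_mem_sL3 t)), rfl⟩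

theorem sys_gen : MA hq hK ⊔ (SB hq hK (lL 2) ⊔ SB hq hK (lL 5)) = ⊤ :=
  eq_top_iff.2 fun x _ => mem_of_map hq hK (genLe hq hK x.2)

/-- the lists of the nested spans -/
theorem chainTab :
    commB (sL 1) (sL 1) [] = true ∧ commB (sL 1) (lL 1) [] = true ∧ commB (sL 0) (lL 1) [] = true ∧
    commB (sL 1) (sL 2) (lL 1) = true ∧ commB (lL 0) (lL 2) (lL 1) = true ∧
    commB (sL 0) (sL 2) (sL 1 ++ (lL 0 ++ lL 1)) = true ∧
    commB (sL 0) (lL 2) (sL 2 ++ (sL 1 ++ (lL 0 ++ lL 1))) = true ∧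
    splitB (lL 0) (lL 1) = true ∧ splitB (sL 1) (lL 0 ++ lL 1) = true ∧
    splitB (sL 2) (sL 1 ++ (lL 0 ++ lL 1)) = true ∧
    ((lL 2 ++ (sL 0 ++ (sL 2 ++ (sL 1 ++ (lL 0 ++ lL 1))))).all fun r => Nat.ble (half chevD4) r) = true ∧
    Q3 = sL 1 ++ (lL 0 ++ lL 1) := by
  decide +kernel

theorem infTab :
    closedB (lL 0) = true ∧ closedB (lL 1) = true ∧ ((lL 0).all fun r => !(lL 1).contains r) = true ∧
    closedB (sL 1) = true ∧ closedB (lL 0 ++ lL 1) = true ∧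
      ((sL 1).all fun r => !(lL 0 ++ lL 1).contains r) = true ∧
    closedB (sL 2) = true ∧ closedB (sL 1 ++ (lL 0 ++ lL 1)) = true ∧
      ((sL 2).all fun r => !(sL 1 ++ (lL 0 ++ lL 1)).contains r) = true ∧
    closedB (sL 0) = true ∧ closedB (sL 2 ++ (sL 1 ++ (lL 0 ++ lL 1))) = true ∧
      ((sL 0).all fun r => !(sL 2 ++ (sL 1 ++ (lL 0 ++ lL 1))).contains r) = true ∧
    closedB (lL 2) = true ∧ closedB (sL 0 ++ (sL 2 ++ (sL 1 ++ (lL 0 ++ lL 1)))) = true ∧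
      ((lL 2).all fun r => !(sL 0 ++ (sL 2 ++ (sL 1 ++ (lL 0 ++ lL 1)))).contains r) = true := by
  decide +kernel

theorem Q2_le : SB hq hK (lL 0) ⊔ SB hq hK (lL 1) ≤ SB hq hK (lL 0 ++ lL 1) := SB_sup_le hq hK _ _

theorem Q3_le : SB hq hK (sL 1) ⊔ (SB hq hK (lL 0) ⊔ SB hq hK (lL 1)) ≤ SB hq hK (sL 1 ++ (lL 0 ++ lL 1)) :=
  (sup_le_sup_left (Q2_le hq hK) _).trans (SB_sup_le hq hK _ _)

theorem Q4_le : SB hq hK (sL 2) ⊔ (SB hq hK (sL 1) ⊔ (SB hq hK (lL 0) ⊔ SB hq hK (lL 1))) ≤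
    SB hq hK (sL 2 ++ (sL 1 ++ (lL 0 ++ lL 1))) :=
  (sup_le_sup_left (Q3_le hq hK) _).trans (SB_sup_le hq hK _ _)

theorem Q5_le : SB hq hK (sL 0) ⊔ (SB hq hK (sL 2) ⊔ (SB hq hK (sL 1) ⊔ (SB hq hK (lL 0) ⊔ SB hq hK (lL 1)))) ≤
    SB hq hK (sL 0 ++ (sL 2 ++ (sL 1 ++ (lL 0 ++ lL 1)))) :=
  (sup_le_sup_left (Q4_le hq hK) _).trans (SB_sup_le hq hK _ _)

theorem Q6_le : SB hq hK (lL 2) ⊔
    (SB hq hK (sL 0) ⊔ (SB hq hK (sL 2) ⊔ (SB hq hK (sL 1) ⊔ (SB hq hK (lL 0) ⊔ SB hq hK (lL 1))))) ≤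
    SB hq hK (lL 2 ++ (sL 0 ++ (sL 2 ++ (sL 1 ++ (lL 0 ++ lL 1))))) :=
  (sup_le_sup_left (Q5_le hq hK) _).trans (SB_sup_le hq hK _ _)

theorem Q3_ge : SB hq hK (sL 1 ++ (lL 0 ++ lL 1)) ≤ SB hq hK (sL 1) ⊔ (SB hq hK (lL 0) ⊔ SB hq hK (lL 1)) := by
  obtain ⟨-, -, -, -, -, -, -, s1, s2, -⟩ := chainTab
  exact (SB_append_le hq hK s2).trans (sup_le_sup_left (SB_append_le hq hK s1) _)

theorem inf_bot_of_le {L M : List ℕ} {U : Subgroup ↥(GP hq hK)} (hU : U ≤ SB hq hK M) (h1 : closedB L = true)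
    (h2 : closedB M = true) (h3 : (L.all fun r => !M.contains r) = true) : SB hq hK L ⊓ U = ⊥ :=
  eq_bot_iff.2 ((inf_le_inf_left _ hU).trans (SB_inf hq hK h1 h2 h3).le)

theorem sys_d7 : HB hq hK ⊓ (SB hq hK (lL 2) ⊔
    (SB hq hK (sL 0) ⊔ (SB hq hK (sL 2) ⊔ (SB hq hK (sL 1) ⊔ (SB hq hK (lL 0) ⊔ SB hq hK (lL 1)))))) = ⊥ :=
  (Subgroup.eq_bot_iff_forall _).2 fun x hx => Subtype.ext (Subgroup.mem_bot.1 (by
    obtain ⟨h1, h2⟩ := Subgroup.mem_inf.1 hx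
    rw [← (R0 K).UP_inf_HS]
    exact Subgroup.mem_inf.2 ⟨UL_le_UP chainTab.2.2.2.2.2.2.2.2.2.2.1 (Q6_le hq hK h2), h1⟩))

theorem sys_hBN : ∀ n ∈ HB hq hK ⊔ Subgroup.closure {naP hq hK, nbP hq hK},
    n ∈ HB hq hK ⊔ (SB hq hK (lL 2) ⊔
      (SB hq hK (sL 0) ⊔ (SB hq hK (sL 2) ⊔ (SB hq hK (sL 1) ⊔ (SB hq hK (lL 0) ⊔ SB hq hK (lL 1)))))) →
    n ∈ HB hq hK := by
  intro n h1 h2
  have hN : HB hq hK ⊔ Subgroup.closure {naP hq hK, nbP hq hK} ≤ (R0 K).NS.subgroupOf (GP hq hK) := by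
    refine sup_le (fun x hx => (R0 K).HS_le_NS hx) ((Subgroup.closure_le _).2 ?_)
    rintro x (rfl | rfl)
    · exact naA_mem_NS
    · exact nbA_mem_NS
  have hB : HB hq hK ⊔ SB hq hK (lL 2 ++ (sL 0 ++ (sL 2 ++ (sL 1 ++ (lL 0 ++ lL 1))))) ≤
      (R0 K).BS.subgroupOf (GP hq hK) :=
    sup_le (fun x hx => (R0 K).HS_le_BS hx) fun x hx =>
      (R0 K).UP_le_BS (UL_le_UP chainTab.2.2.2.2.2.2.2.2.2.2.1 hx)
  have h3 : (n : ↥(chevD4.group K)) ∈ (R0 K).BS ⊓ (R0 K).NS :=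
    Subgroup.mem_inf.2 ⟨hB (sup_le_sup_left (Q6_le hq hK) _ h2), hN h1⟩
  rw [(R0 K).BS_inf_NS] at h3
  exact h3

theorem sys_twist : ∀ y ∈ SB hq hK (sL 2), ∃ v ∈ SB hq hK (sL 0),
    ∃ w ∈ SB hq hK (sL 1) ⊔ (SB hq hK (lL 0) ⊔ SB hq hK (lL 1)),
      p2P hq hK * v * (p2P hq hK)⁻¹ = v * y * w := by
  intro y hy
  obtain ⟨s, rfl⟩ := exists_bP hq hK hy
  refine ⟨_, aP_mem hq hK s, (aP hq hK s * bP hq hK s)⁻¹ * (p2P hq hK * aP hq hK s * (p2P hq hK)⁻¹),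
    Q3_ge hq hK ?_, by group⟩
  have h := twist_calc hq hK s
  rw [chainTab.2.2.2.2.2.2.2.2.2.2.2] at h
  exact h

theorem sys_injL : ∀ l ∈ SB hq hK (lL 0), ⁅l⁻¹, p2P hq hK⁆ = 1 → l = 1 := by
  intro l hl h
  obtain ⟨t, -, e⟩ := param_22 hq hK l.2 hl
  have h1 := congrArg Subtype.val h
  have e2 : ((⁅l⁻¹, p2P hq hK⁆ : ↥(GP hq hK)) : ↥(chevD4.group K)) =
      ⁅xG certD4 K 22 (-t), xG certD4 K 14 1⁆ := by
    simp only [commutatorElement_def, Subgroup.coe_mul, Subgroup.coe_inv, coe_p2, e, xG_inv]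
  rw [e2, comm_22 hq hK, neg_neg] at h1
  have ht : t = 0 := (R0 K).xe_inj_param (r := ⟨23, by decide +kernel⟩) (h1.trans ((R0 K).xe_zero 23).symm)
  exact Subtype.ext (by rw [e, ht]; exact (R0 K).xe_zero 22)

theorem sys_sMB : ∀ z ∈ SB hq hK (lL 1), ∃ x ∈ SB hq hK (sL 1), ∃ y ∈ SB hq hK (sL 2), ⁅x, y⁆ = z := by
  intro z hz
  obtain ⟨t, ht, e⟩ := param_23 hq hK z.2 hz
  obtain ⟨s, u, h⟩ := comm_MB_orbit hq hK ht
  exact ⟨_, mP_mem hq hK s, _, bP_mem hq hK u, Subtype.ext (by rw [e, ← h]; rfl)⟩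

/-- the root system of the triality groups -/
noncomputable def sysD4 : CfsgLib.Lie.G2Cover.Sys ↥(GP hq hK) where
  H := HB hq hK
  SS k := SB hq hK (sL k)
  LL k := SB hq hK (lL k)
  na := naP hq hK
  nb := nbP hq hK
  p2 := p2P hq hK
  p5 := p5P hq hK
  hH := HB_comm hq hK
  hHS _ hh _ := HB_cj hq hK hh _
  hHL _ hh _ := HB_cj hq hK hh _
  naH := cj_HB hq hK naA_mem_NS
  nbH := cj_HB hq hK nbA_mem_NS
  naS := cj_naP_s hq hK
  naL := cj_naP_l hq hK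
  nbS := cj_nbP_s hq hK
  nbL := cj_nbP_l hq hK
  naM := (naP_mem_MA hq hK).1
  sqa := sq_mem_HS.1
  p2m := X_mem (List.mem_cons_self ..) 1
  p5m := X_mem (List.mem_cons_self ..) (-1)
  hnb := Subtype.ext nbA_eq
  hinv := sys_hinv hq hK
  hbraid := sys_hbraid hq hK
  orb2 := sys_orb2 hq hK
  orb5 := sys_orb5 hq hK
  fpf := sys_fpf hq hK
  fpf0 := sys_fpf0 hq hK
  mult := mult_MA hq hK
  cSS := SB_comm hq hK chainTab.1
  cSL := SB_comm hq hK chainTab.2.1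
  cAL := SB_comm hq hK chainTab.2.2.1
  rSS := rigid_SS hq hK
  rSL := rigid_SL hq hK
  rAL := rigid_AL hq hK
  cMB _ hx _ hy := SB_comm_mem hq hK chainTab.2.2.2.1 hx hy
  sMB := sys_sMB hq hK
  twist := sys_twist hq hK
  injL := sys_injL hq hK
  cLb _ hl := SB_comm_mem hq hK chainTab.2.2.2.2.1 (inv_mem hl) (X_mem (List.mem_cons_self ..) 1)
  cAB _ hx _ hy := Q3_ge hq hK (SB_comm_mem hq hK chainTab.2.2.2.2.2.1 hx hy)
  cAb _ hx _ hy := ((SB_append_le hq hK chainTab.2.2.2.2.2.2.2.2.2.1).trans (sup_le_sup_left (Q3_ge hq hK) _))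
    (SB_comm_mem hq hK chainTab.2.2.2.2.2.2.1 hx hy)
  rAB := rigid_AB hq hK
  rAb := rigid_Ab hq hK
  d2 := SB_inf hq hK infTab.1 infTab.2.1 infTab.2.2.1
  d3 := inf_bot_of_le hq hK (Q2_le hq hK) infTab.2.2.2.1 infTab.2.2.2.2.1 infTab.2.2.2.2.2.1
  d4 := inf_bot_of_le hq hK (Q3_le hq hK) infTab.2.2.2.2.2.2.1 infTab.2.2.2.2.2.2.2.1 infTab.2.2.2.2.2.2.2.2.1
  d5 := inf_bot_of_le hq hK (Q4_le hq hK) infTab.2.2.2.2.2.2.2.2.2.1 infTab.2.2.2.2.2.2.2.2.2.2.1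
    infTab.2.2.2.2.2.2.2.2.2.2.2.1
  d6 := inf_bot_of_le hq hK (Q5_le hq hK) infTab.2.2.2.2.2.2.2.2.2.2.2.2.1 infTab.2.2.2.2.2.2.2.2.2.2.2.2.2.1
    infTab.2.2.2.2.2.2.2.2.2.2.2.2.2.2
  d7 := sys_d7 hq hK
  hHgen := sys_hHgen hq hK
  hHmeet := sys_hHmeet hq hK
  rank1 := sys_rank1 hq hK
  dist := sys_dist hq hK
  hBN := sys_hBN hq hK
  gen := sys_gen hq hK
  perfect := perfectD4 hq hK

include hq hK in
theorem twistedD4_multiplier : Cfsg.HasCyclicSchurMultiplier ↥(twistedD4 K q) 1 :=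
  CfsgLib.Known.SL2Mult.hasCyclicSchurMultiplier_one_congr (Subgroup.subgroupOfEquivOfLe twD4_le)
    (CfsgLib.Lie.G2Cover.schur_trivial (sysD4 hq hK))

end CfsgLib.Lie.Chev.TwGroups.D4Mult
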