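import Cfsg.Agent.Lib.Lie.Twisted.D4Mult.Group

/-!
# Rigidity of the pairings of root subgroups under the torus
-/

set_option autoImplicit false

namespace CfsgLib.Lie.Chev.TwGroups.D4Mult

open Cfsg.Lie
open CfsgLib.Lie.G2Cover (Rigid cj mem_cj)
open scoped commutatorElement

universe u

/-! ### general lemmas -/

theorem rigid_left {G : Type u} [Group G] {H X Y : Subgroup G} {h : G} (hh : h ∈ H)
    (hy : ∀ y ∈ Y, h * y * h⁻¹ = y) (hx : ∀ x ∈ X, ∃ x' ∈ X, ⁅h, x'⁆ = x) : Rigid H X Y := by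
  intro A _ f f1 _ f3 x hxX y hyY
  obtain ⟨x', hx', e⟩ := hx x hxX
  have e2 : h * x' * h⁻¹ = x * x' := by rw [← e, commutatorElement_def]; group
  have := f3 h hh x' hx' y hyY
  rw [e2, hy y hyY, f1 x hxX x' hx' y hyY, mul_eq_right] at this
  exact this

theorem rigid_scalar {G : Type u} [Group G] {F : Type*} [Field F] [Fintype F] (hF : 5 ≤ Fintype.card F)
    {H U V : Subgroup G} (px py : F → G) (hpx : ∀ t, px t ∈ U) (hpy : ∀ t, py t ∈ V)
    (hX : ∀ x ∈ U, ∃ t, x = px t) (hY : ∀ y ∈ V, ∃ t, y = py t)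
    (ax : ∀ s t, px s * px t = px (s + t)) (ay : ∀ s t, py s * py t = py (s + t))
    (hc : ∀ c : Fˣ, ∃ h ∈ H, ∀ t, h * px t * h⁻¹ = px (c * t) ∧ h * py t * h⁻¹ = py (c * t)) :
    Rigid H U V := by
  intro A _ f f1 f2 f3 x hx y hy
  obtain ⟨u, rfl⟩ := hX x hx
  obtain ⟨v, rfl⟩ := hY y hy
  have hl : ∀ s t w, f (px (s + t)) (py w) = f (px s) (py w) * f (px t) (py w) := fun s t w => by
    rw [← ax, f1 _ (hpx _) _ (hpx _) _ (hpy _)]
  have hr : ∀ s t w, f (px w) (py (s + t)) = f (px w) (py s) * f (px w) (py t) := fun s t w => by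
    rw [← ay, f2 _ (hpx _) _ (hpy _) _ (hpy _)]
  have h0 : ∀ w, f (px 0) (py w) = 1 := fun w => by
    have := hl 0 0 w; rwa [add_zero, eq_comm, mul_eq_left] at this
  have inv : ∀ (a : F) (w : F), a ≠ 0 → f (px a) (py w) = f (px 1) (py (w * a⁻¹)) := fun a w ha => by
    obtain ⟨h, hh, e⟩ := hc (Units.mk0 a ha)⁻¹
    have := f3 h hh _ (hpx a) _ (hpy w)
    rw [(e a).1, (e w).2, Units.val_inv_eq_inv_val, Units.val_mk0, inv_mul_cancel₀ ha] at this
    rw [← this, mul_comm w]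
  obtain ⟨w, hw⟩ : ∃ w : F, w * (w + 1) * (w * w + w + 1) ≠ 0 := by
    by_contra hcon
    simp only [not_exists, not_not] at hcon
    open Polynomial in
    have hP : (X * (X + 1) * (X * X + X + 1) : F[X]) = 0 := by
      refine eq_zero_of_natDegree_lt_card_of_eval_eq_zero _ Function.injective_id (fun w => ?_) ?_
      · simpa using hcon w
      · refine lt_of_le_of_lt ?_ (lt_of_lt_of_le (show 4 < 5 by norm_num) hF)
        compute_degree
    open Polynomial in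
    have := congrArg (fun p : F[X] => p.coeff 4) hP
    open Polynomial in
    simp [show (X * (X + 1) * (X * X + X + 1) : F[X]) = X ^ 4 + C 2 * X ^ 3 + C 2 * X ^ 2 + X by
      rw [C_ofNat]; ring, coeff_X, coeff_X_pow, coeff_C_mul] at this
  simp only [mul_ne_zero_iff] at hw
  obtain ⟨⟨w0, w1⟩, w2⟩ := hw
  have key : ∀ v, f (px 1) (py v) = 1 := by
    intro v
    have s0 : (1 : F) + (w + -(1 + w)) = 0 := by ring
    have hn : -(1 + w) ≠ 0 := neg_ne_zero.2 (by rwa [add_comm])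
    have hS : (1 : F) + (w⁻¹ + (-(1 + w))⁻¹) ≠ 0 := by
      have hw1 : 1 + w ≠ 0 := by rwa [add_comm]
      rw [inv_neg, show (1 : F) + (w⁻¹ + -(1 + w)⁻¹) = (w * w + w + 1) * (w⁻¹ * (1 + w)⁻¹) by
        field_simp; ring]
      exact mul_ne_zero w2 (mul_ne_zero (inv_ne_zero w0) (inv_ne_zero hw1))
    obtain ⟨v', rfl⟩ : ∃ v', v = v' * ((1 : F) + (w⁻¹ + (-(1 + w))⁻¹)) :=
      ⟨v / _, (div_mul_cancel₀ v hS).symm⟩
    have e := h0 v'
    rw [← s0, hl, hl, inv w v' w0, inv _ v' hn, ← hr, ← hr] at e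
    rw [← e]
    congr 2
    ring
  by_cases hu : u = 0
  · rw [hu, h0]
  · rw [inv u v hu, key]

variable {K : Type*} [Field K] [Fintype K] {q : ℕ} (hq : IsPrimePow q) (hK : Fintype.card K = q ^ 3)

/-! ### arithmetic of the characters -/

include hq hK in
theorem card_ge : 8 ≤ Fintype.card K := by
  rw [hK]; exact le_trans (by norm_num) (Nat.pow_le_pow_left hq.two_le 3)

include hq hK in
theorem exists_gen : ∃ g : Kˣ, orderOf g = q ^ 3 - 1 := by
  obtain ⟨g, hg⟩ := IsCyclic.exists_generator (α := Kˣ)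
  exact ⟨g, by rw [orderOf_eq_card_of_forall_mem_zpowers hg, Nat.card_units, Nat.card_eq_fintype_card, hK]⟩

theorem pow_ne_of_lt {g : Kˣ} {m n : ℕ} (hm : m < orderOf g) (hn : n < orderOf g) (h : m ≠ n) : g ^ m ≠ g ^ n :=
  fun e => h (pow_injOn_Iio_orderOf hm hn e)

include hq hK in
theorem exists_cM : ∃ d : Kˣ, cM d q ≠ 1 := by
  obtain ⟨g, hg⟩ := exists_gen hq hK
  refine ⟨g, fun h => ?_⟩
  have h2 := hq.two_le
  have h4 : 2 * q ^ 2 ≤ q ^ 3 := by rw [pow_succ' q 2]; exact Nat.mul_le_mul_right _ h2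
  have h5 : 2 * q ≤ q ^ 2 := by rw [sq]; exact Nat.mul_le_mul_right _ h2
  rw [cM, mul_inv_eq_one, ← pow_mul, ← pow_succ', ← sq] at h
  refine pow_ne_of_lt (m := q + 1) (n := q ^ 2) ?_ ?_ ?_ h
  · rw [hg]; omega
  · rw [hg]; omega
  · omega

include hq hK in
theorem exists_sq_ne : ∃ d : Kˣ, d ^ 2 ≠ 1 ∧ d * d ^ q * (d ^ q) ^ q = 1 := by
  obtain ⟨g, hg⟩ := exists_gen hq hK
  have h2 := hq.two_le
  have h4 : 2 * q ^ 2 ≤ q ^ 3 := by rw [pow_succ' q 2]; exact Nat.mul_le_mul_right _ h2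
  have h5 : 2 * q ≤ q ^ 2 := by rw [sq]; exact Nat.mul_le_mul_right _ h2
  refine ⟨g ^ (q - 1), ?_, ?_⟩
  · rw [← pow_mul]
    exact fun h => pow_ne_of_lt (m := (q - 1) * 2) (n := 0) (by rw [hg]; omega) (by rw [hg]; omega) (by omega)
      (by rw [h, pow_zero])
  · rw [← pow_mul, ← pow_mul, ← pow_add, ← pow_add]
    rw [show q - 1 + (q - 1) * q + (q - 1) * q * q = orderOf g by
        rw [hg]
        obtain ⟨p, rfl⟩ : ∃ p, q = p + 1 := ⟨q - 1, by omega⟩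
        rw [Nat.add_sub_cancel, show (p + 1) ^ 3 = p + p * (p + 1) + p * (p + 1) * (p + 1) + 1 by ring,
          Nat.add_sub_cancel]]
    exact pow_orderOf_eq_one g

include hq hK in
theorem exists_fixed_ne (h3 : 3 ≤ q) : ∃ e : Kˣ, e ^ q = e ∧ e ≠ 1 := by
  obtain ⟨g, hg⟩ := exists_gen hq hK
  have h4 : 3 * q ^ 2 ≤ q ^ 3 := by rw [pow_succ' q 2]; exact Nat.mul_le_mul_right _ h3
  have h5 : 3 * q ≤ q ^ 2 := by rw [sq]; exact Nat.mul_le_mul_right _ h3
  refine ⟨g ^ (1 + q + q ^ 2), ?_, fun h => ?_⟩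
  · rw [← pow_mul, show (1 + q + q ^ 2) * q = q ^ 3 + (q + q ^ 2) by ring, pow_add, show g ^ q ^ 3 = g by
      have := units_qqq hK g; rwa [← pow_mul, ← pow_mul, show q * (q * q) = q ^ 3 by ring] at this,
      ← pow_succ']
    congr 1; ring
  · exact pow_ne_of_lt (m := 1 + q + q ^ 2) (n := 0) (by rw [hg]; omega) (by rw [hg]; omega) (by omega)
      (by rw [h, pow_zero])

/-- `cM` as a homomorphism -/
def cMhom (K : Type*) [Field K] (q : ℕ) : Kˣ →* Kˣ where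
  toFun d := cM d q
  map_one' := by simp [cM]
  map_mul' a b := by simp only [cM, mul_pow, mul_inv_rev]; ac_rfl

include hK in
theorem cM_surjective (c : Kˣ) : ∃ d : Kˣ, cM d q = c := by
  obtain ⟨R, hR⟩ : ∃ R, R = (cMhom K q).range := ⟨_, rfl⟩
  have h4 : ∀ y : Kˣ, y ^ 4 ∈ R := fun y => hR ▸ ⟨(y * (y ^ q) ^ q) ^ 2, by
    show cM _ q = _
    have e := units_qqq hK y
    simp only [cM, mul_pow]
    have p : ∀ z : Kˣ, (z ^ 2) ^ q = (z ^ q) ^ 2 := fun z => by rw [← pow_mul, ← pow_mul, mul_comm]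
    rw [p, p, p, p, e, show y ^ 4 = y ^ 2 * y ^ 2 by rw [← pow_add]]
    rw [mul_inv_eq_iff_eq_mul]
    simp only [mul_comm, mul_left_comm, mul_assoc]⟩
  have hb : ∀ y : Kˣ, cM y q ∈ R := fun y => hR ▸ ⟨y, rfl⟩
  have hq' : ∀ y : Kˣ, y ^ q ∈ R := by
    intro y
    rcases Nat.even_or_odd' q with ⟨i, rfl | rfl⟩
    · have e : ∀ z : Kˣ, z * z ^ (2 * i) ∈ R := fun z => by
        have := mul_mem (hb z) (pow_mem (h4 z) (i * i))
        rwa [cM, ← pow_mul, ← pow_mul, show 2 * i * (2 * i) = 4 * (i * i) by ring, inv_mul_cancel_right] at this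
      have e2 : ∀ z : Kˣ, z ^ 2 ∈ R := fun z => by
        have := mul_mem (e (z ^ 2)) (inv_mem (pow_mem (h4 z) i))
        rwa [← pow_mul, ← pow_mul, show 4 * i = 2 * (2 * i) by ring, mul_inv_cancel_right] at this
      rw [pow_mul]; exact pow_mem (e2 y) i
    · have := mul_mem (hb y) (pow_mem (h4 y) (i * i + i))
      rwa [cM, ← pow_mul, ← pow_mul, show (2 * i + 1) * (2 * i + 1) = 4 * (i * i + i) + 1 by ring, pow_succ y (4 * (i * i + i)),
        mul_inv_rev, ← mul_assoc, inv_mul_cancel_right, mul_comm y, mul_inv_cancel_right] at this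
  have := hq' ((c ^ q) ^ q)
  rw [units_qqq hK, hR] at this
  exact this

/-! ### torus actions on parametrised classes -/

include hq hK in
theorem aP_add (s t : K) : aP hq hK s * aP hq hK t = aP hq hK (s + t) := Subtype.ext (xA_add hq hK s t)

theorem bP_add (s t : K) : bP hq hK s * bP hq hK t = bP hq hK (s + t) := Subtype.ext (xB_add hq hK s t)

theorem mP_add (s t : K) : mP hq hK s * mP hq hK t = mP hq hK (s + t) := Subtype.ext (xM_add hq hK s t)

theorem hP_aP {a : Kˣ} (ha : a ^ q = a) (d : Kˣ) (t : K) :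
    hP hq hK ha d * aP hq hK t * (hP hq hK ha d)⁻¹ = aP hq hK ((cA a d : K) * t) := Subtype.ext (hel_A hK ha t)

theorem hP_bP {a : Kˣ} (ha : a ^ q = a) (d : Kˣ) (t : K) :
    hP hq hK ha d * bP hq hK t * (hP hq hK ha d)⁻¹ = bP hq hK ((cB a d q : K) * t) := Subtype.ext (hel_B hq hK ha t)

theorem hP_mP {a : Kˣ} (ha : a ^ q = a) (d : Kˣ) (t : K) :
    hP hq hK ha d * mP hq hK t * (hP hq hK ha d)⁻¹ = mP hq hK ((cM d q : K) * t) := Subtype.ext (hel_M hq hK ha t)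

/-- commutator with a torus element -/
theorem comm_scale {G : Type*} [Group G] (p : K → G) (hadd : ∀ s t, p s * p t = p (s + t)) {h : G} {c : K}
    (hc : ∀ t, h * p t * h⁻¹ = p (c * t)) (hc1 : c ≠ 1) :
    (∀ t, ⁅h, p t⁆ = p ((c - 1) * t)) ∧ ∀ t, ∃ t', ⁅h, p t'⁆ = p t := by
  have e : ∀ t, ⁅h, p t⁆ = p ((c - 1) * t) := fun t => by
    rw [commutatorElement_def, hc, mul_inv_eq_iff_eq_mul, hadd]; congr 1; ring
  exact ⟨e, fun t => ⟨t / (c - 1), by rw [e]; congr 1; rw [mul_comm]; exact div_mul_cancel₀ t (sub_ne_zero.2 hc1)⟩⟩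

theorem val_ne_one {c : Kˣ} (h : c ≠ 1) : (c : K) ≠ 1 := fun e => h (Units.val_eq_one.1 e)

theorem hP_14 {a : Kˣ} (ha : a ^ q = a) (d : Kˣ) (hc : cb a d q = 1) {y : ↥(GP hq hK)}
    (hy : y ∈ SB hq hK (lL 2)) : hP hq hK ha d * y * (hP hq hK ha d)⁻¹ = y := by
  obtain ⟨t, -, e⟩ := param_14 hq hK y.2 hy
  refine Subtype.ext ?_
  show hel q a d * (y : ↥(chevD4.group K)) * (hel q a d)⁻¹ = y
  rw [e, hel_14, hc, Units.val_one, one_mul]

theorem hP_23 {a : Kˣ} (ha : a ^ q = a) (d : Kˣ) (hc : a = 1) {y : ↥(GP hq hK)}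
    (hy : y ∈ SB hq hK (lL 1)) : hP hq hK ha d * y * (hP hq hK ha d)⁻¹ = y := by
  obtain ⟨t, -, e⟩ := param_23 hq hK y.2 hy
  refine Subtype.ext ?_
  show hel q a d * (y : ↥(chevD4.group K)) * (hel q a d)⁻¹ = y
  rw [e, hel_X _ _ (by norm_num), (chi_eq a d).2.2.2.2.2.2.2.2.2.2.2.2, hc, Units.val_one, one_mul]

/-- the pairing of the class of `2α+β` with itself -/
theorem rigid_SS : Rigid (HB hq hK) (SB hq hK (sL 1)) (SB hq hK (sL 1)) := by
  refine rigid_scalar (le_trans (by norm_num) (card_ge hq hK)) (mP hq hK) (mP hq hK) (mP_mem hq hK)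
    (mP_mem hq hK) (fun x hx => exists_mP hq hK hx) (fun x hx => exists_mP hq hK hx) (mP_add hq hK)
    (mP_add hq hK) fun c => ?_
  obtain ⟨d, rfl⟩ := cM_surjective hK c
  exact ⟨_, hP_mem hq hK (one_pow q) d, fun t => ⟨hP_mP hq hK _ d t, hP_mP hq hK _ d t⟩⟩

theorem rigid_SL : Rigid (HB hq hK) (SB hq hK (sL 1)) (SB hq hK (lL 1)) := by
  obtain ⟨d, hd⟩ := exists_cM hq hK
  refine rigid_left (hP_mem hq hK (one_pow q) d) (fun y hy => hP_23 hq hK _ d rfl hy) fun x hx => ?_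
  obtain ⟨t, rfl⟩ := exists_mP hq hK hx
  obtain ⟨t', e⟩ := (comm_scale (mP hq hK) (mP_add hq hK) (hP_mP hq hK (one_pow q) d) (val_ne_one hd)).2 t
  exact ⟨_, mP_mem hq hK t', e⟩

theorem rigid_A {Y : Subgroup ↥(GP hq hK)} {a : Kˣ} (ha : a ^ q = a) (d : Kˣ) (hc : cA a d ≠ 1)
    (hY : ∀ y ∈ Y, hP hq hK ha d * y * (hP hq hK ha d)⁻¹ = y) : Rigid (HB hq hK) (SB hq hK (sL 0)) Y := by
  refine rigid_left (hP_mem hq hK ha d) hY fun x hx => ?_
  obtain ⟨t, rfl⟩ := exists_aP hq hK hx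
  obtain ⟨t', e⟩ := (comm_scale (aP hq hK) (aP_add hq hK) (hP_aP hq hK ha d) (val_ne_one hc)).2 t
  exact ⟨_, aP_mem hq hK t', e⟩

theorem rigid_AL : Rigid (HB hq hK) (SB hq hK (sL 0)) (SB hq hK (lL 1)) := by
  obtain ⟨d, hd, -⟩ := exists_sq_ne hq hK
  exact rigid_A hq hK (one_pow q) d (by simpa [cA] using hd) fun y hy => hP_23 hq hK _ d rfl hy

theorem rigid_Ab : Rigid (HB hq hK) (SB hq hK (sL 0)) (SB hq hK (lL 2)) := by
  obtain ⟨d, hd, hn⟩ := exists_sq_ne hq hK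
  refine rigid_A hq hK (one_pow q) d (by simpa [cA] using hd) fun y hy => hP_14 hq hK _ d ?_ hy
  rw [cb, one_pow, mul_one, ← mul_inv, ← mul_inv, hn, inv_one]

theorem rigid_AB : Rigid (HB hq hK) (SB hq hK (sL 0)) (SB hq hK (sL 2)) := by
  rcases Nat.lt_or_ge q 3 with h | h
  · obtain rfl : q = 2 := by have := hq.two_le; omega
    refine rigid_scalar (le_trans (by norm_num) (card_ge hq hK)) (aP hq hK) (bP hq hK) (aP_mem hq hK)
      (bP_mem hq hK) (fun x hx => exists_aP hq hK hx) (fun x hx => exists_bP hq hK hx) (aP_add hq hK)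
      (bP_add hq hK) fun c => ?_
    obtain ⟨d, rfl⟩ : ∃ d : Kˣ, d ^ 2 = c := ⟨(c ^ 2) ^ 2, units_qqq hK c⟩
    refine ⟨_, hP_mem hq hK (one_pow 2) d, fun t => ⟨?_, ?_⟩⟩
    · rw [hP_aP]; simp [cA]
    · rw [hP_bP, show cB (1 : Kˣ) d 2 = d ^ 2 by
        rw [cB, mul_one, mul_inv_eq_iff_eq_mul, mul_inv_eq_iff_eq_mul]
        conv_lhs => rw [← units_qqq hK d]
        group]
  · obtain ⟨e, he, he1⟩ := exists_fixed_ne hq hK h
    refine rigid_A hq hK he e (by rwa [cA, sq, mul_inv_cancel_right]) fun y hy => ?_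
    obtain ⟨t, rfl⟩ := exists_bP hq hK hy
    rw [hP_bP, cB, he, he, mul_inv_cancel_right, mul_inv_cancel, Units.val_one, one_mul]

end CfsgLib.Lie.Chev.TwGroups.D4Mult
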