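import Cfsg.Agent.Lib.Lie.Twisted.D4Mult.Tools

/-!
# The twelve root subgroups, the monomial elements and the torus of the triality groups
-/

set_option autoImplicit false

namespace CfsgLib.Lie.Chev.TwGroups.D4Mult

open Cfsg.Lie

variable {K : Type*} [Field K] [Fintype K] {q : ℕ} (hq : IsPrimePow q) (hK : Fintype.card K = q ^ 3)

/-- short root classes -/
def sL (k : ZMod 6) : List ℕ :=
  [[18, 13, 12], [21, 17, 20], [19, 16, 15], [5, 10, 11], [2, 6, 3], [4, 7, 8]].getD k.val []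

/-- long root classes -/
def lL (k : ZMod 6) : List ℕ := [[22], [23], [14], [1], [0], [9]].getD k.val []

/-- the reflection in the short simple class -/
def wA (r : ℕ) : ℕ := auxD4.w 0 (auxD4.w 2 (auxD4.w 3 r))

/-- the reflection in the long simple class -/
def wB (r : ℕ) : ℕ := auxD4.w 1 r

theorem rank4 : ∀ n, n < 4 → n < chevD4.rank := fun n hn => lt_of_lt_of_eq hn (by decide +kernel)

theorem permTab :
    (∀ k : ZMod 6, ((sL k).all fun r => (sL (3 - k)).contains (wA r)) = true ∧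
      ((lL k).all fun r => (lL (2 - k)).contains (wA r)) = true ∧
      ((sL k).all fun r => (sL (2 - k)).contains (wB r)) = true ∧
      ((lL k).all fun r => (lL (1 - k)).contains (wB r)) = true) ∧
    ((List.range 24).all fun r => Nat.beq (wA (wA r)) r && Nat.beq (wB (wB r)) r) = true := by
  decide +kernel

/-- the longest element of the short class -/
def naA (K : Type*) [Field K] : ↥(chevD4.group K) :=
  (R0 K).ne 18 1 * ((R0 K).ne 13 1 * (R0 K).ne 12 1)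

/-- the longest element of the long class -/
def nbA (K : Type*) [Field K] : ↥(chevD4.group K) := (R0 K).ne 14 1

/-- the index of a simple root -/
def ix (n : ℕ) (hn : n < 4) : Fin chevD4.rank := ⟨n, rank4 n hn⟩

omit [Fintype K] in
theorem isMon_naA : ∃ (σ : Equiv.Perm (Fin chevD4.nroots)) (a : Fin chevD4.nroots → K),
    (R0 K).IsMon (naA K) σ a ∧ (∀ r : Fin chevD4.nroots, (σ r : ℕ) = wA r) ∧
      ∀ r : Fin chevD4.nroots, a r = (auxD4.eta 0 (auxD4.w 2 (auxD4.w 3 r)) : K) *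
        ((auxD4.eta 2 (auxD4.w 3 r) : K) * (auxD4.eta 3 r : K)) := by
  obtain ⟨-, -, -, -, ⟨s0, -, s2, s3⟩, -⟩ := negD4
  have h0 := (R0 K).isMon_ne_simple (ix 0 (by norm_num)) (c := (1 : K)) one_ne_zero
  have h2 := (R0 K).isMon_ne_simple (ix 2 (by norm_num)) (c := (1 : K)) one_ne_zero
  have h3 := (R0 K).isMon_ne_simple (ix 3 (by norm_num)) (c := (1 : K)) one_ne_zero
  simp only [ix, s0, s2, s3] at h0 h2 h3
  exact ⟨_, _, (R0 K).isMon_mul h0 ((R0 K).isMon_mul h2 h3), fun r => rfl,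
    fun r => by simp [ix, Rel.wperm_apply]⟩

omit [Fintype K] in
theorem isMon_nbA : ∃ (σ : Equiv.Perm (Fin chevD4.nroots)) (a : Fin chevD4.nroots → K),
    (R0 K).IsMon (nbA K) σ a ∧ (∀ r : Fin chevD4.nroots, (σ r : ℕ) = wB r) ∧
      ∀ r : Fin chevD4.nroots, a r = (auxD4.eta 1 r : K) := by
  obtain ⟨-, -, -, -, ⟨-, s1, -, -⟩, -⟩ := negD4
  have h1 := (R0 K).isMon_ne_simple (ix 1 (by norm_num)) (c := (1 : K)) one_ne_zero
  simp only [ix, s1] at h1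
  exact ⟨_, _, h1, fun r => rfl, fun r => by simp [ix]⟩

omit [Fintype K] in
theorem naA_X {r : ℕ} (hr : r < 24) (t : K) :
    naA K * xG certD4 K r t * (naA K)⁻¹ = xG certD4 K (wA r)
      ((auxD4.eta 0 (auxD4.w 2 (auxD4.w 3 r)) : K) * ((auxD4.eta 2 (auxD4.w 3 r) : K) * (auxD4.eta 3 r : K)) * t) := by
  obtain ⟨σ, a, h, hσ, ha⟩ := isMon_naA (K := K)
  have hr' : r < chevD4.nroots := lt_of_lt_of_eq hr (by decide +kernel)
  have := (h ⟨r, hr'⟩).2.2.2 t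
  rw [hσ, ha] at this
  exact this

omit [Fintype K] in
theorem nbA_X {r : ℕ} (hr : r < 24) (t : K) :
    nbA K * xG certD4 K r t * (nbA K)⁻¹ = xG certD4 K (wB r) ((auxD4.eta 1 r : K) * t) := by
  obtain ⟨σ, a, h, hσ, ha⟩ := isMon_nbA (K := K)
  have hr' : r < chevD4.nroots := lt_of_lt_of_eq hr (by decide +kernel)
  have := (h ⟨r, hr'⟩).2.2.2 t
  rw [hσ, ha] at this
  exact this

/-- elements of the negative class of `α` -/
def xND4 (q : ℕ) (t : K) : ↥(chevD4.group K) :=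
  xG certD4 K 5 t * xG certD4 K 10 (t ^ q) * xG certD4 K 11 ((t ^ q) ^ q)

include hq hK in
/-- closure of a subgroup containing the two short classes under the Weyl element and the short coroot -/
theorem triple_mem_of (W : Subgroup ↥(chevD4.group K)) (hA : ∀ t : K, xAD4 q t ∈ W)
    (hN : ∀ t : K, xND4 q t ∈ W) :
    naA K ∈ W ∧ naA K = xAD4 q 1 * xND4 q (-1) * xAD4 q 1 ∧ ∀ t : K,
      (R0 K).he 18 t * ((R0 K).he 13 (t ^ q) * (R0 K).he 12 ((t ^ q) ^ q)) ∈ W := by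
  obtain ⟨⟨c1, c2, c3⟩, ⟨e1, e2, e3⟩, ⟨f1, f1'⟩, ⟨f2, f2'⟩, ⟨f3, f3'⟩⟩ := commD4
  obtain ⟨⟨n18, n13, n12, -⟩, -⟩ := negD4
  have sy : ∀ {r s : ℕ}, chkNoTerms chevD4 r s = true → ∀ u v : K,
      Commute (xG certD4 K r u) (xG certD4 K s v) := fun h u v => xG_commute certD4 h u v
  have h13 : chkNoTerms chevD4 13 (chevD4.neg 12) = true := by rw [n12]; exact f3
  have h13' : chkNoTerms chevD4 (chevD4.neg 13) 12 = true := by rw [n13]; exact f3'
  have h13'' : chkNoTerms chevD4 (chevD4.neg 13) (chevD4.neg 12) = true := by rw [n13, n12]; exact e3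
  have hx : ∀ u v w : K, Commute (xG certD4 K 18 u) (xG certD4 K 13 v * xG certD4 K 12 w) := fun u v w =>
    (sy c1 u v).mul_right (sy c2 u w)
  have hxy : ∀ u v w : K, Commute (xG certD4 K 18 u) (xG certD4 K 10 v * xG certD4 K 11 w) := fun u v w =>
    (sy f1 u v).mul_right (sy f2 u w)
  have hyx : ∀ u v w : K, Commute (xG certD4 K 5 u) (xG certD4 K 13 v * xG certD4 K 12 w) := fun u v w =>
    (sy f1' u v).mul_right (sy f2' u w)
  have key : ∀ c : K, (R0 K).ne 18 c * ((R0 K).ne 13 (c ^ q) * (R0 K).ne 12 ((c ^ q) ^ q)) =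
      xAD4 q c * xND4 q (-c⁻¹) * xAD4 q c := by
    intro c
    rw [← ne_pair certD4 c3 h13 h13', n13, n12]
    show xG certD4 K 18 c * xG certD4 K (chevD4.neg 18) (-c⁻¹) * xG certD4 K 18 c * _ = _
    rw [n18, ← sandwich_split (hyx _ _ _).symm (hx _ _ _).symm (hxy _ _ _).symm]
    simp only [xAD4, xND4, neg_pow_D4 hq hK, inv_pow, mul_assoc]
  have hkey : ∀ c : K, (R0 K).ne 18 c * ((R0 K).ne 13 (c ^ q) * (R0 K).ne 12 ((c ^ q) ^ q)) ∈ W := fun c => by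
    rw [key c]; exact mul_mem (mul_mem (hA c) (hN _)) (hA c)
  refine ⟨?_, ?_, fun t => ?_⟩
  · have := hkey 1; simpa only [one_pow, naA] using this
  · have := key 1; simpa only [one_pow, inv_one, naA] using this
  have k1 := hkey t
  have k2 := hkey (-1)
  rw [neg_pow_D4 hq hK, one_pow, neg_pow_D4 hq hK, one_pow] at k2
  have hn : ∀ (r : ℕ), r = 13 ∨ r = 12 → ∀ u v : K, Commute ((R0 K).ne r u) ((R0 K).ne 18 v) := by
    intro r hr u v
    have a1 : ∀ u', Commute (xG certD4 K 18 u') ((R0 K).ne r u) := fun u' => by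
      rcases hr with rfl | rfl
      · show Commute _ (xG certD4 K 13 u * xG certD4 K (chevD4.neg 13) (-u⁻¹) * xG certD4 K 13 u)
        rw [n13]
        exact ((sy c1 u' u).mul_right (sy f1 u' _)).mul_right (sy c1 u' u)
      · show Commute _ (xG certD4 K 12 u * xG certD4 K (chevD4.neg 12) (-u⁻¹) * xG certD4 K 12 u)
        rw [n12]
        exact ((sy c2 u' u).mul_right (sy f2 u' _)).mul_right (sy c2 u' u)
    have a2 : ∀ u', Commute (xG certD4 K 5 u') ((R0 K).ne r u) := fun u' => by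
      rcases hr with rfl | rfl
      · show Commute _ (xG certD4 K 13 u * xG certD4 K (chevD4.neg 13) (-u⁻¹) * xG certD4 K 13 u)
        rw [n13]
        exact ((sy f1' u' u).mul_right (sy e1 u' _)).mul_right (sy f1' u' u)
      · show Commute _ (xG certD4 K 12 u * xG certD4 K (chevD4.neg 12) (-u⁻¹) * xG certD4 K 12 u)
        rw [n12]
        exact ((sy f2' u' u).mul_right (sy e2 u' _)).mul_right (sy f2' u' u)
    show Commute _ (xG certD4 K 18 v * xG certD4 K (chevD4.neg 18) (-v⁻¹) * xG certD4 K 18 v)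
    rw [n18]
    exact (((a1 v).mul_left (a2 _)).mul_left (a1 v)).symm
  have hp := he_pair certD4 c3 h13 h13' h13'' (K := K) (t ^ q) ((t ^ q) ^ q)
  have e : (R0 K).he 18 t * ((R0 K).he 13 (t ^ q) * (R0 K).he 12 ((t ^ q) ^ q)) =
      ((R0 K).ne 18 t * ((R0 K).ne 13 (t ^ q) * (R0 K).ne 12 ((t ^ q) ^ q))) *
      ((R0 K).ne 18 (-1) * ((R0 K).ne 13 (-1) * (R0 K).ne 12 (-1))) := by
    rw [← hp]
    show (R0 K).ne 18 t * (R0 K).ne 18 (-1) *
      (((R0 K).ne 13 (t ^ q) * (R0 K).ne 12 ((t ^ q) ^ q)) * ((R0 K).ne 13 (-1) * (R0 K).ne 12 (-1))) = _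
    rw [mul_assoc ((R0 K).ne 18 t), ← mul_assoc ((R0 K).ne 18 (-1)),
      ← ((hn 13 (Or.inl rfl) (t ^ q) (-1)).mul_left (hn 12 (Or.inr rfl) ((t ^ q) ^ q) (-1))).eq]
    group
  rw [e]
  exact mul_mem k1 k2

theorem xND4_mem (t : K) : xND4 q t ∈ (twD4 hq hK).P1 := by
  rw [xND4, mul_assoc]; exact wordD4_triple_mem (a := 5) (b := 10) (c := 11) (by decide) t

theorem naA_mem : naA K ∈ (twD4 hq hK).P1 :=
  (triple_mem_of hq hK _ (fun t => (classes_mem_P1 hq hK t).1) (xND4_mem hq hK)).1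

theorem nbA_eq : nbA K = xG certD4 K 14 (1 : K) * xG certD4 K 9 (-1) * xG certD4 K 14 1 := by
  obtain ⟨⟨-, -, -, n14⟩, -⟩ := negD4
  show xG certD4 K 14 (1 : K) * xG certD4 K (chevD4.neg 14) (-(1 : K)⁻¹) * xG certD4 K 14 1 = _
  rw [n14, inv_one]

theorem x14_mem {t : K} (ht : t ^ q = t) : xG certD4 K 14 t ∈ (twD4 hq hK).P1 :=
  wordD4_single_mem (r := 14) (by decide) ht

theorem x9_mem {t : K} (ht : t ^ q = t) : xG certD4 K 9 t ∈ (twD4 hq hK).P1 :=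
  wordD4_single_mem (r := 9) (by decide) ht

include hq hK in
theorem neg_one_fix : (-1 : K) ^ q = -1 := by rw [neg_pow_D4 hq hK, one_pow]

theorem nbA_mem : nbA K ∈ (twD4 hq hK).P1 := by
  rw [nbA_eq]
  exact mul_mem (mul_mem (x14_mem hq hK (one_pow q)) (x9_mem hq hK (neg_one_fix hq hK))) (x14_mem hq hK (one_pow q))

/-! ### parametrisations -/

theorem param_A {g : ↥(chevD4.group K)} (hg : g ∈ (twD4 hq hK).P1) (h : g ∈ UL K (sL 0)) :
    ∃ t : K, g = xAD4 q t := by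
  obtain ⟨⟨a1, a2, a3, -⟩, -⟩ := twAtD4
  obtain ⟨l0, -⟩ := classD4
  obtain ⟨⟨c1, c2, c3⟩, -⟩ := commD4
  have hle : UL K (sL 0) ≤ (R0 K).US (posSub chevD4 auxD4 orbD4 0) := UL_le fun r hr t =>
    xG_class_mem certD4 orbD4_ho 0 (show r ∈ classList chevD4 auxD4 orbLD4 ((0 : Fin 2) : ℕ) by
      rw [Fin.val_zero, l0]; exact permD4.mem_iff.2 hr) t
  obtain ⟨t, -, e⟩ := triple_fixed certD4 orbD4_ho 0 (wordD4 0) l0 permD4 c1 c2 c3 (σD4_simple hq hK a1)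
    (σD4_simple hq hK a2) (σD4_simple hq hK a3) (hle h) ((twD4 hq hK).hfix g hg)
  exact ⟨t, by rw [e, xAD4, mul_assoc]⟩

theorem param_14 {g : ↥(chevD4.group K)} (hg : g ∈ (twD4 hq hK).P1) (h : g ∈ UL K (lL 2)) :
    ∃ t : K, t ^ q = t ∧ g = xG certD4 K 14 t := by
  obtain ⟨⟨-, -, -, a4⟩, -⟩ := twAtD4
  obtain ⟨-, l1⟩ := classD4
  have hle : UL K (lL 2) ≤ (R0 K).US (posSub chevD4 auxD4 orbD4 1) := UL_le fun r hr t =>
    xG_class_mem certD4 orbD4_ho 1 (show r ∈ classList chevD4 auxD4 orbLD4 ((1 : Fin 2) : ℕ) by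
      rw [Fin.val_one, l1]; exact hr) t
  exact single_fixed certD4 orbD4_ho 1 (wordD4 1) l1 (σD4_simple hq hK a4) (hle h) ((twD4 hq hK).hfix g hg)

theorem etaTab :
    ([18, 13, 12].map fun r => (wB r, auxD4.eta 1 r)) = [(19, 1), (16, -1), (15, -1)] ∧
    ([19, 16, 15].map fun r => (wA r, auxD4.eta 0 (auxD4.w 2 (auxD4.w 3 r)) *
      (auxD4.eta 2 (auxD4.w 3 r) * auxD4.eta 3 r))) = [(17, 1), (20, 1), (21, 1)] ∧
    (wA 14 = 22 ∧ auxD4.eta 0 (auxD4.w 2 (auxD4.w 3 14)) * (auxD4.eta 2 (auxD4.w 3 14) * auxD4.eta 3 14) = -1) ∧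
    (wB 22 = 23 ∧ auxD4.eta 1 22 = 1) ∧ (wB 14 = 9 ∧ wB 9 = 14 ∧ auxD4.eta 1 9 = -1 ∧ auxD4.eta 1 14 = -1) := by
  decide +kernel

omit [Fintype K] in
theorem nbA_A (t : K) : nbA K * xAD4 q t * (nbA K)⁻¹ = xBD4 q t := by
  obtain ⟨h, -⟩ := etaTab
  simp only [List.map_cons, List.map_nil, List.cons.injEq, Prod.mk.injEq] at h
  obtain ⟨⟨w1, e1⟩, ⟨w2, e2⟩, ⟨w3, e3⟩, -⟩ := h
  have e : ∀ x y z : ↥(chevD4.group K), nbA K * (x * y * z) * (nbA K)⁻¹ =
      (nbA K * x * (nbA K)⁻¹) * (nbA K * y * (nbA K)⁻¹) * (nbA K * z * (nbA K)⁻¹) := fun x y z => by group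
  rw [xAD4, xBD4, e, nbA_X (by norm_num), nbA_X (by norm_num), nbA_X (by norm_num), w1, e1, w2, e2, w3, e3]
  simp

include hq hK in
theorem naA_B (u : K) : naA K * xBD4 q u * (naA K)⁻¹ = xMD4 q (-((u ^ q) ^ q)) := by
  obtain ⟨-, h, -⟩ := etaTab
  simp only [List.map_cons, List.map_nil, List.cons.injEq, Prod.mk.injEq] at h
  obtain ⟨⟨w1, e1⟩, ⟨w2, e2⟩, ⟨w3, e3⟩, -⟩ := h
  obtain ⟨-, -, -, ⟨p1, p2, p3⟩⟩ := quietD4
  have e : ∀ x y z : ↥(chevD4.group K), naA K * (x * y * z) * (naA K)⁻¹ =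
      (naA K * x * (naA K)⁻¹) * (naA K * y * (naA K)⁻¹) * (naA K * z * (naA K)⁻¹) := fun x y z => by group
  have c1 := congrArg (fun z : ℤ => (z : K)) e1
  have c2 := congrArg (fun z : ℤ => (z : K)) e2
  have c3 := congrArg (fun z : ℤ => (z : K)) e3
  push_cast at c1 c2 c3
  rw [xBD4, e, naA_X (by norm_num), naA_X (by norm_num), naA_X (by norm_num), w1, w2, w3, c1, c2, c3, xMD4]
  simp only [one_mul, neg_pow_D4 hq hK, neg_neg, pow_qqq hK]
  rw [((xG_commute certD4 p2 u _).mul_left (xG_commute certD4 p3 _ _)).eq, mul_assoc]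

omit [Fintype K] in
theorem naA_14 (t : K) : naA K * xG certD4 K 14 t * (naA K)⁻¹ = xG certD4 K 22 (-t) := by
  obtain ⟨-, -, ⟨w, e⟩, -⟩ := etaTab
  have c := congrArg (fun z : ℤ => (z : K)) e
  push_cast at c
  rw [naA_X (by norm_num), w, c, neg_one_mul]

omit [Fintype K] in
theorem nbA_22 (t : K) : nbA K * xG certD4 K 22 t * (nbA K)⁻¹ = xG certD4 K 23 t := by
  obtain ⟨-, -, -, ⟨w, e⟩, -⟩ := etaTab
  rw [nbA_X (by norm_num), w, e]; simp

omit [Fintype K] in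
theorem nbA_9 (t : K) : nbA K * xG certD4 K 9 t * (nbA K)⁻¹ = xG certD4 K 14 (-t) := by
  obtain ⟨-, -, -, -, ⟨-, w, e, -⟩⟩ := etaTab
  rw [nbA_X (by norm_num), w, e]; simp

omit [Fintype K] in
theorem perm_UL_A {L M : List ℕ} (h : (L.all fun r => M.contains (wA r)) = true) {x : ↥(chevD4.group K)}
    (hx : x ∈ UL K L) : naA K * x * (naA K)⁻¹ ∈ UL K M := by
  obtain ⟨σ, a, hm, hσ, -⟩ := isMon_naA (K := K)
  simp only [List.all_eq_true, List.contains_iff_mem] at h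
  exact conj_UL hm (fun r hr => by rw [hσ]; exact h _ hr) hx

omit [Fintype K] in
theorem perm_UL_B {L M : List ℕ} (h : (L.all fun r => M.contains (wB r)) = true) {x : ↥(chevD4.group K)}
    (hx : x ∈ UL K L) : nbA K * x * (nbA K)⁻¹ ∈ UL K M := by
  obtain ⟨σ, a, hm, hσ, -⟩ := isMon_nbA (K := K)
  simp only [List.all_eq_true, List.contains_iff_mem] at h
  exact conj_UL hm (fun r hr => by rw [hσ]; exact h _ hr) hx

theorem naA_mem_NS : naA K ∈ (R0 K).NS := by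
  obtain ⟨-, -, -, -, ⟨s0, -, s2, s3⟩, -⟩ := negD4
  have h : ∀ n (hn : n < 4), (R0 K).ne (chevD4.simple n) (1 : K) ∈ (R0 K).NS := fun n hn =>
    (R0 K).ne_simple_mem_NS (ix n hn) one_ne_zero
  have h0 := h 0 (by norm_num); have h2 := h 2 (by norm_num); have h3 := h 3 (by norm_num)
  rw [s0] at h0; rw [s2] at h2; rw [s3] at h3
  exact mul_mem h0 (mul_mem h2 h3)

theorem nbA_mem_NS : nbA K ∈ (R0 K).NS := by
  obtain ⟨-, -, -, -, ⟨-, s1, -, -⟩, -⟩ := negD4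
  have h1 := (R0 K).ne_simple_mem_NS (ix 1 (by norm_num)) (c := (1 : K)) one_ne_zero
  simp only [ix, s1] at h1
  exact h1

theorem sq_mem_HS : naA K * naA K ∈ (R0 K).HS ∧ nbA K * nbA K ∈ (R0 K).HS := by
  have key : ∀ (g : ↥(chevD4.group K)), g ∈ (R0 K).NS → ∀ (σ : Equiv.Perm (Fin chevD4.nroots))
      (a : Fin chevD4.nroots → K), (R0 K).IsMon g σ a → ∀ w : ℕ → ℕ, (∀ r, (σ r : ℕ) = w r) →
      (∀ r, r < 24 → w (w r) = r) → g * g ∈ (R0 K).HS := by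
    intro g hg σ a hm w hw hinv
    refine (R0 K).nsPerm_eq_one_of_pos ⟨g * g, mul_mem hg hg⟩ fun i => ?_
    rw [(R0 K).nsPerm_eq (g := ⟨g * g, mul_mem hg hg⟩) ((R0 K).isMon_mul hm hm), Equiv.Perm.mul_apply, hw, hw,
      hinv _ (lt_of_lt_of_eq ((R0 K).sroot i).2 (by decide +kernel))]
    exact (R0 K).sroot_pos i
  obtain ⟨σ, a, hm, hσ, -⟩ := isMon_naA (K := K)
  obtain ⟨σ', a', hm', hσ', -⟩ := isMon_nbA (K := K)
  have h := permTab.2
  simp only [List.all_eq_true, List.mem_range, Bool.and_eq_true, nat_beq_iff] at h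
  exact ⟨key _ naA_mem_NS σ a hm wA hσ fun r hr => (h r hr).1,
    key _ nbA_mem_NS σ' a' hm' wB hσ' fun r hr => (h r hr).2⟩

theorem param_B {g : ↥(chevD4.group K)} (hg : g ∈ (twD4 hq hK).P1) (h : g ∈ UL K (sL 2)) :
    ∃ t : K, g = xBD4 q t := by
  have hh := sq_mem_HS (K := K)
  have h2 : nbA K * g * (nbA K)⁻¹ ∈ UL K (sL 0) := perm_UL_B (permTab.1 2).2.2.1 h
  have h3 := HS_conj_UL (inv_mem hh.2) h2
  obtain ⟨t, ht⟩ := param_A hq hK (mul_mem (mul_mem (inv_mem (nbA_mem hq hK)) hg) (nbA_mem hq hK))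
    (show (nbA K)⁻¹ * g * nbA K ∈ UL K (sL 0) by convert h3 using 1; group)
  exact ⟨t, by rw [← nbA_A, ← ht]; group⟩

theorem param_M {g : ↥(chevD4.group K)} (hg : g ∈ (twD4 hq hK).P1) (h : g ∈ UL K (sL 1)) :
    ∃ t : K, g = xMD4 q t := by
  have hh := sq_mem_HS (K := K)
  have h3 := HS_conj_UL (inv_mem hh.1) (perm_UL_A (permTab.1 1).1 h)
  obtain ⟨t, ht⟩ := param_B hq hK (mul_mem (mul_mem (inv_mem (naA_mem hq hK)) hg) (naA_mem hq hK))
    (show (naA K)⁻¹ * g * naA K ∈ UL K (sL 2) by convert h3 using 1; group)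
  exact ⟨-((t ^ q) ^ q), by rw [← naA_B hq hK, ← ht]; group⟩

theorem param_22 {g : ↥(chevD4.group K)} (hg : g ∈ (twD4 hq hK).P1) (h : g ∈ UL K (lL 0)) :
    ∃ t : K, t ^ q = t ∧ g = xG certD4 K 22 t := by
  have hh := sq_mem_HS (K := K)
  have h3 := HS_conj_UL (inv_mem hh.1) (perm_UL_A (permTab.1 0).2.1 h)
  obtain ⟨t, hf, ht⟩ := param_14 hq hK (mul_mem (mul_mem (inv_mem (naA_mem hq hK)) hg) (naA_mem hq hK))
    (show (naA K)⁻¹ * g * naA K ∈ UL K (lL 2) by convert h3 using 1; group)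
  exact ⟨-t, by rw [neg_pow_D4 hq hK, hf], by rw [← naA_14, ← ht]; group⟩

theorem param_23 {g : ↥(chevD4.group K)} (hg : g ∈ (twD4 hq hK).P1) (h : g ∈ UL K (lL 1)) :
    ∃ t : K, t ^ q = t ∧ g = xG certD4 K 23 t := by
  have hh := sq_mem_HS (K := K)
  have h3 := HS_conj_UL (inv_mem hh.2) (perm_UL_B (permTab.1 1).2.2.2 h)
  obtain ⟨t, hf, ht⟩ := param_22 hq hK (mul_mem (mul_mem (inv_mem (nbA_mem hq hK)) hg) (nbA_mem hq hK))
    (show (nbA K)⁻¹ * g * nbA K ∈ UL K (lL 0) by convert h3 using 1; group)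
  exact ⟨t, hf, by rw [← nbA_22, ← ht]; group⟩

theorem param_9 {g : ↥(chevD4.group K)} (hg : g ∈ (twD4 hq hK).P1) (h : g ∈ UL K (lL 5)) :
    ∃ t : K, t ^ q = t ∧ g = xG certD4 K 9 t := by
  obtain ⟨t, hf, ht⟩ := param_14 hq hK (mul_mem (mul_mem (nbA_mem hq hK) hg) (inv_mem (nbA_mem hq hK)))
    (perm_UL_B (permTab.1 5).2.2.2 h)
  exact ⟨-t, by rw [neg_pow_D4 hq hK, hf], by
    rw [← mul_left_cancel_iff (a := nbA K), ← mul_right_cancel_iff (a := (nbA K)⁻¹), ht, nbA_9, neg_neg]⟩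

/-! ### the torus -/

/-- torus elements -/
noncomputable def hel (q : ℕ) (a d : Kˣ) : ↥(chevD4.group K) :=
  ((R0 K).torusHom (tupD4 d a (d ^ q) ((d ^ q) ^ q)) : ↥(chevD4.group K))

/-- the character of a root on the torus -/
def chi (q r : ℕ) (a d : Kˣ) : Kˣ :=
  d ^ chevD4.cartan 0 r * a ^ chevD4.cartan 1 r * (d ^ q) ^ chevD4.cartan 2 r * ((d ^ q) ^ q) ^ chevD4.cartan 3 r

theorem hel_X (a d : Kˣ) {r : ℕ} (hr : r < 24) (t : K) :
    hel q a d * xG certD4 K r t * (hel q a d)⁻¹ = xG certD4 K r ((chi q r a d : K) * t) := by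
  obtain ⟨-, -, -, -, ⟨s0, s1, s2, s3⟩, -⟩ := negD4
  have h : ∀ (n : ℕ) (hn : n < 4) (c : Kˣ), (R0 K).IsMon ((R0 K).he (chevD4.simple n) (c : K)) 1
      fun r => (c : K) ^ chevD4.cartan n r := fun n hn c => (R0 K).isMon_he_simple (ix n hn) c.ne_zero
  have h0 := h 0 (by norm_num) d
  have h1 := h 1 (by norm_num) a
  have h2 := h 2 (by norm_num) (d ^ q)
  have h3 := h 3 (by norm_num) ((d ^ q) ^ q)
  rw [s0] at h0; rw [s1] at h1; rw [s2] at h2; rw [s3] at h3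
  have hm := (R0 K).isMon_mul ((R0 K).isMon_mul ((R0 K).isMon_mul h0 h1) h2) h3
  have hr' : r < chevD4.nroots := lt_of_lt_of_eq hr (by decide +kernel)
  have e := (hm ⟨r, hr'⟩).2.2.2 t
  rw [← tupD4_val] at e
  simp only [mul_one, Equiv.Perm.one_apply] at e
  rw [hel]
  refine e.trans ?_
  simp [chi, Units.val_mul, Units.val_zpow_eq_zpow_val, Units.val_pow_eq_pow_val]
  rfl

theorem hel_mem {a : Kˣ} (ha : a ^ q = a) (d : Kˣ) :
    hel q a d ∈ (twD4 hq hK).P1 ∧ hel q a d ∈ (R0 K).HS :=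
  Subgroup.mem_inf.1 (psiD4_mem hq hK (⟨a, (fixU_iff hq.pos a).2 ha⟩, d))

theorem exists_hel {h : ↥(chevD4.group K)} (h1 : h ∈ (twD4 hq hK).P1) (h2 : h ∈ (R0 K).HS) :
    ∃ a d : Kˣ, a ^ q = a ∧ h = hel q a d := by
  have hh : h ∈ (psiD4 K q).range := by rw [psiD4_range hq hK]; exact Subgroup.mem_inf.2 ⟨h1, h2⟩
  obtain ⟨⟨⟨a, ha⟩, d⟩, rfl⟩ := hh
  exact ⟨a, d, (fixU_iff hq.pos a).1 ha, rfl⟩

theorem hel_mul (a b c d : Kˣ) : hel q a c * hel q b d = hel q (a * b) (c * d) := by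
  rw [hel, hel, hel, ← Subgroup.coe_mul, ← map_mul]
  congr 2
  funext i
  obtain ⟨i, hi⟩ := i
  have hi4 : i < 4 := hi
  interval_cases i <;> simp [tupD4, mul_pow]

theorem hel_one_eq (d : Kˣ) :
    hel q 1 d = (R0 K).he 18 (d : K) * ((R0 K).he 13 ((d : K) ^ q) * (R0 K).he 12 (((d : K) ^ q) ^ q)) := by
  rw [hel, tupD4_val, Units.val_one, (R0 K).he_one, mul_one, mul_assoc]
  simp [Units.val_pow_eq_pow_val]

end CfsgLib.Lie.Chev.TwGroups.D4Mult
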