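import Cfsg.Agent.Lib.Lie.Twisted.D4Perfect
import Cfsg.Agent.Lib.Lie.Twisted.TorusConj
import Cfsg.Agent.Lib.Lie.Rel.BorelTits

/-!
# Root lists in type D4: generated subgroups, closedness, normalisation
-/

set_option autoImplicit false

namespace CfsgLib.Lie.Chev.TwGroups.D4Mult

open Cfsg.Lie
open scoped commutatorElement

variable (K : Type*) [Field K]

/-- the relation system -/
abbrev R0 := chevRel certD4 K

/-- the subgroup generated by the root subgroups of a list -/
def UL (L : List ℕ) : Subgroup ↥(chevD4.group K) := (R0 K).US {r | (r : ℕ) ∈ L}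

variable {K}

/-- every root is in range -/
def rangeB (L : List ℕ) : Bool := L.all fun r => Nat.blt r chevD4.nroots

/-- the terms of two roots lie in a list -/
def termsIn (r s : ℕ) (T : List ℕ) : Bool := (chevD4.commTerms r s).all fun c => T.contains c.1

/-- a list is positive and closed -/
def closedB (L : List ℕ) : Bool :=
  L.all (fun r => Nat.blt r chevD4.nroots && Nat.ble (half chevD4) r) && L.all fun r => L.all fun s => termsIn r s L

/-- the roots of `L` normalise the span of `T` -/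
def normB (L T : List ℕ) : Bool :=
  rangeB L && rangeB T && L.all fun s => T.all fun r =>
    !Nat.beq s (chevD4.neg r) && (Nat.beq s r || termsIn r s T)

/-- the terms between two lists lie in `T`, which both normalise -/
def commB (L M T : List ℕ) : Bool :=
  rangeB L && rangeB M && normB L T && normB M T && L.all fun r => M.all fun s =>
    !Nat.beq s (chevD4.neg r) && (Nat.beq s r || termsIn r s T)

theorem rangeB_lt {L : List ℕ} (h : rangeB L = true) {r : ℕ} (hr : r ∈ L) : r < chevD4.nroots :=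
  nat_blt_iff.1 (List.all_eq_true.1 h r hr)

theorem X_mem {L : List ℕ} {r : ℕ} (hr : r ∈ L) (t : K) : xG certD4 K r t ∈ UL K L := by
  by_cases h : r < chevD4.nroots
  · exact (R0 K).xe_mem_US (r := ⟨r, h⟩) (show r ∈ L from hr) t
  · rw [show xG certD4 K r t = 1 from (R0 K).xe_oob r t h]; exact one_mem _

theorem UL_le {L : List ℕ} {S : Subgroup ↥(chevD4.group K)} (h : ∀ r ∈ L, ∀ t, xG certD4 K r t ∈ S) :
    UL K L ≤ S :=
  (R0 K).US_le fun r hr t => h r hr t

theorem UL_mono {L M : List ℕ} (h : ∀ r ∈ L, r ∈ M) : UL K L ≤ UL K M :=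
  (R0 K).US_mono fun _ hr => h _ hr

theorem UL_append (L M : List ℕ) : UL K (L ++ M) = UL K L ⊔ UL K M :=
  le_antisymm (UL_le fun r hr t => (List.mem_append.1 hr).elim
      (fun h => Subgroup.mem_sup_left (X_mem h t)) fun h => Subgroup.mem_sup_right (X_mem h t))
    (sup_le (UL_mono fun _ h => List.mem_append_left _ h) (UL_mono fun _ h => List.mem_append_right _ h))

theorem UL_nil : UL K [] = ⊥ := eq_bot_iff.2 (UL_le fun _ h => absurd h List.not_mem_nil)

theorem UL_le_normalizer {L T : List ℕ} (h : normB L T = true) :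
    UL K L ≤ Subgroup.normalizer (UL K T : Set ↥(chevD4.group K)) := by
  simp only [normB, Bool.and_eq_true, List.all_eq_true, Bool.not_eq_true', Bool.or_eq_true] at h
  obtain ⟨⟨hL, hT⟩, h⟩ := h
  refine UL_le fun s hs t => ?_
  have hs' := rangeB_lt hL hs
  refine (R0 K).xe_mem_normalizer (fun r hr t' u => ?_) t
  obtain ⟨h1, h2⟩ := h s hs r hr
  by_cases hrs : s = r
  · subst hrs
    rw [mul_assoc, (R0 K).xe_add', ← (R0 K).xe_neg, (R0 K).xe_add']
    exact (R0 K).xe_mem_US hr _
  · refine (R0 K).xe_conj_mem (r := r) (s := ⟨s, hs'⟩) (fun e => hrs (congrArg Fin.val e)) (fun e => ?_) hr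
      (fun c hc hlt => ?_) t' u
    · rw [← Bool.not_eq_true, nat_beq_iff] at h1
      exact h1 (congrArg Fin.val e)
    · rcases h2 with h2 | h2
      · exact absurd (nat_beq_iff.1 h2) hrs
      · simp only [termsIn, List.all_eq_true, List.contains_iff_mem] at h2
        exact h2 c hc

theorem comm_gen {r s : ℕ} (hr : r < chevD4.nroots) (hs : s < chevD4.nroots) (hn : s ≠ chevD4.neg r)
    {T : List ℕ} (h : s = r ∨ termsIn r s T = true) (t u : K) :
    ⁅xG certD4 K r t, xG certD4 K s u⁆ ∈ UL K T := by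
  by_cases hrs : s = r
  · subst hrs
    rw [commutatorElement_eq_one_iff_mul_comm.2 (by rw [xG_pow_mul, xG_pow_mul, add_comm])]
    exact one_mem _
  have e : xG certD4 K s (-u) * xG certD4 K r (-t) = xG certD4 K r (-t) * xG certD4 K s (-u) *
      ((chevD4.commWord K r s (-t) (-u)).map fun p => xG certD4 K p.1 p.2).prod :=
    (R0 K).xe_comm r s (-t) (-u) hr hs hrs hn
  have hW : ((chevD4.commWord K r s (-t) (-u)).map fun p => xG certD4 K p.1 p.2).prod ∈ UL K T := by
    refine list_prod_mem fun x hx => ?_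
    simp only [ChevalleyDatum.commWord, List.map_map, List.mem_map, Function.comp_apply] at hx
    obtain ⟨c, hc, rfl⟩ := hx
    have h2 := h.resolve_left hrs
    simp only [termsIn, List.all_eq_true, List.contains_iff_mem] at h2
    exact X_mem (h2 c hc) _
  have hneg : ∀ k (x : K), xG certD4 K k (-x) = (xG certD4 K k x)⁻¹ := fun k x => (R0 K).xe_neg k x
  generalize ((chevD4.commWord K r s (-t) (-u)).map fun p => xG certD4 K p.1 p.2).prod = W at e hW
  rw [hneg, hneg] at e
  have e2 : ⁅xG certD4 K r t, xG certD4 K s u⁆ = W⁻¹ := by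
    rw [show W = ((xG certD4 K r t)⁻¹ * (xG certD4 K s u)⁻¹)⁻¹ * ((xG certD4 K s u)⁻¹ * (xG certD4 K r t)⁻¹) by
      rw [e]; group, commutatorElement_def]
    group
  rw [e2]; exact inv_mem hW

/-- commutators between two spans -/
theorem comm_UL {L M T : List ℕ} (h : commB L M T = true) {x y : ↥(chevD4.group K)} (hx : x ∈ UL K L)
    (hy : y ∈ UL K M) : ⁅x, y⁆ ∈ UL K T := by
  simp only [commB, Bool.and_eq_true, List.all_eq_true, Bool.not_eq_true', Bool.or_eq_true] at h
  obtain ⟨⟨⟨⟨hL, hM⟩, nL⟩, nM⟩, h⟩ := h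
  have hN : ∀ {g z : ↥(chevD4.group K)}, g ∈ UL K L ∨ g ∈ UL K M → z ∈ UL K T → g * z * g⁻¹ ∈ UL K T :=
    fun {g z} hg hz => by
      rcases hg with hg | hg
      · exact (Subgroup.mem_normalizer_iff.1 (UL_le_normalizer nL hg) z).1 hz
      · exact (Subgroup.mem_normalizer_iff.1 (UL_le_normalizer nM hg) z).1 hz
  have inner : ∀ r ∈ L, ∀ (t : K), ∀ y ∈ UL K M, ⁅xG certD4 K r t, y⁆ ∈ UL K T := by
    intro r hr t y hy
    unfold UL Rel.US at hy
    refine closure_induction_symm (R0 K).gens_symm ?_ (fun a ha b hb => ?_) hy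
    · rw [commutatorElement_one_right]; exact one_mem _
    · obtain ⟨s, hs, u, rfl⟩ := ha
      rw [show ⁅xG certD4 K r t, (R0 K).xe (s : ℕ) u * b⁆ = ⁅xG certD4 K r t, (R0 K).xe (s : ℕ) u⁆ *
        ((R0 K).xe (s : ℕ) u * ⁅xG certD4 K r t, b⁆ * ((R0 K).xe (s : ℕ) u)⁻¹) by
          simp only [commutatorElement_def]; group]
      obtain ⟨h1, h2⟩ := h r hr s hs
      rw [← Bool.not_eq_true, nat_beq_iff] at h1
      exact mul_mem (comm_gen (rangeB_lt hL hr) s.2 h1 (h2.imp nat_beq_iff.1 id) t u)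
        (hN (Or.inr ((R0 K).xe_mem_US hs u)) hb)
  unfold UL Rel.US at hx
  refine closure_induction_symm (R0 K).gens_symm ?_ (fun a ha b hb => ?_) hx
  · rw [commutatorElement_one_left]; exact one_mem _
  · obtain ⟨r, hr, t, rfl⟩ := ha
    rw [show ⁅(R0 K).xe (r : ℕ) t * b, y⁆ = (R0 K).xe (r : ℕ) t * ⁅b, y⁆ * ((R0 K).xe (r : ℕ) t)⁻¹ *
      ⁅(R0 K).xe (r : ℕ) t, y⁆ by simp only [commutatorElement_def]; group]
    exact mul_mem (hN (Or.inl ((R0 K).xe_mem_US hr t)) hb) (inner r hr t y hy)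

/-- commuting spans -/
theorem commute_UL {L M : List ℕ} (h : commB L M [] = true) {x y : ↥(chevD4.group K)} (hx : x ∈ UL K L)
    (hy : y ∈ UL K M) : x * y = y * x := by
  have := comm_UL h hx hy
  rwa [UL_nil, Subgroup.mem_bot, commutatorElement_eq_one_iff_mul_comm] at this

/-- disjoint closed spans -/
theorem UL_inf {L M : List ℕ} (h1 : closedB L = true) (h2 : closedB M = true)
    (h3 : (L.all fun r => !M.contains r) = true) : UL K L ⊓ UL K M = ⊥ := by
  have hc : ∀ {N : List ℕ}, closedB N = true → PosClosed chevD4 {r : Fin chevD4.nroots | (r : ℕ) ∈ N} := by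
    intro N hN
    simp only [closedB, termsIn, Bool.and_eq_true, List.all_eq_true, nat_ble_iff, List.contains_iff_mem] at hN
    exact ⟨fun r hr => (hN.1 r hr).2, fun r hr s hs c hc _ => hN.2 r hr s hs c hc⟩
  refine (Subgroup.eq_bot_iff_forall _).2 fun g hg => ?_
  have h := (R0 K).US_inf_closed (hc h1) (hc h2) (Subgroup.mem_inf.1 hg).1 (Subgroup.mem_inf.1 hg).2
  have hle : (R0 K).US ({r : Fin chevD4.nroots | (r : ℕ) ∈ L} ∩ {r : Fin chevD4.nroots | (r : ℕ) ∈ M}) ≤ ⊥ :=
    (R0 K).US_le fun r hr _ => by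
      simp only [List.all_eq_true, Bool.not_eq_true', ← Bool.not_eq_true, List.contains_iff_mem] at h3
      exact absurd hr.2 (h3 _ hr.1)
  exact Subgroup.mem_bot.1 (hle h)

theorem UL_le_UP {L : List ℕ} (h : (L.all fun r => Nat.ble (half chevD4) r) = true) : UL K L ≤ (R0 K).UP :=
  (R0 K).US_mono fun _ hr => nat_ble_iff.1 (List.all_eq_true.1 h _ hr)

theorem UL_le_UN {L : List ℕ} (h : (L.all fun r => Nat.blt r (half chevD4)) = true) : UL K L ≤ (R0 K).UN :=
  (R0 K).US_mono fun _ hr => not_le.2 (nat_blt_iff.1 (List.all_eq_true.1 h _ hr))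

/-- monomial elements permute spans -/
theorem conj_UL {g : ↥(chevD4.group K)} {σ : Equiv.Perm (Fin chevD4.nroots)} {a : Fin chevD4.nroots → K}
    (hg : (R0 K).IsMon g σ a) {L M : List ℕ} (h : ∀ r : Fin chevD4.nroots, (r : ℕ) ∈ L → (σ r : ℕ) ∈ M)
    {x : ↥(chevD4.group K)} (hx : x ∈ UL K L) : g * x * g⁻¹ ∈ UL K M :=
  Rel.IsMon.conj_mem_US (R0 K) hg (T := {r : Fin chevD4.nroots | (r : ℕ) ∈ M}) (fun r hr => h r hr) hx

theorem HS_conj_UL {L : List ℕ} {g : ↥(chevD4.group K)} (hg : g ∈ (R0 K).HS) {x : ↥(chevD4.group K)}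
    (hx : x ∈ UL K L) : g * x * g⁻¹ ∈ UL K L :=
  (Subgroup.mem_normalizer_iff.1 ((R0 K).HS_le_normalizer_US _ hg) x).1 hx

end CfsgLib.Lie.Chev.TwGroups.D4Mult
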