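import Cfsg.Agent.Lib.Lie.Twisted.D4Mult.Comm

/-!
# The torus conditions
-/

set_option autoImplicit false

namespace CfsgLib.Lie.Chev.TwGroups.D4Mult

open Cfsg.Lie
open CfsgLib.Lie.G2Cover (cj mem_cj)
open scoped commutatorElement

variable {K : Type*} [Field K] [Fintype K] {q : ℕ} (hq : IsPrimePow q) (hK : Fintype.card K = q ^ 3)

omit [Fintype K] in
theorem xG_inv (r : ℕ) (t : K) : (xG certD4 K r t)⁻¹ = xG certD4 K r (-t) := ((R0 K).xe_neg r t).symm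

include hK in
theorem pow_S {a : Kˣ} : (a ^ (1 + q + q ^ 2)) ^ q = a ^ (1 + q + q ^ 2) := by
  rw [← pow_mul, show (1 + q + q ^ 2) * q = q ^ 3 + (q + q ^ 2) by ring, pow_add, show a ^ q ^ 3 = a by
      have := units_qqq hK a; rwa [← pow_mul, ← pow_mul, show q * (q * q) = q ^ 3 by ring] at this,
      ← pow_succ']
  congr 1; ring

/-- a sign as a fixed unit -/
theorem neg_one_units : ((-1 : Kˣ)) ^ q = -1 ↔ (-1 : K) ^ q = -1 := by
  rw [Units.ext_iff]; push_cast; rfl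

theorem cb_neg_one : cb (1 : Kˣ) (-1) q = -1 ↔ (-1 : Kˣ) * ((-1) ^ q)⁻¹ * (((-1) ^ q) ^ q)⁻¹ = -1 := by
  simp [cb]

include hq hK in
theorem cb_sign {s : ℤ} (hs : s = 1 ∨ s = -1) : ∃ d : Kˣ, ((cb (1 : Kˣ) d q : Kˣ) : K) = s := by
  have h1 : (-1 : Kˣ) ^ q = -1 := (neg_one_units).2 (neg_one_fix hq hK)
  rcases hs with rfl | rfl
  · exact ⟨1, by simp [cb]⟩
  · exact ⟨-1, by rw [cb_neg_one.2 (by rw [h1, h1]; simp)]; simp⟩

theorem coe_p2 : ((p2P hq hK : ↥(GP hq hK)) : ↥(chevD4.group K)) = xG certD4 K 14 1 := rfl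

theorem coe_p5 : ((p5P hq hK : ↥(GP hq hK)) : ↥(chevD4.group K)) = xG certD4 K 9 (-1) := rfl

theorem coe_hP {a : Kˣ} (ha : a ^ q = a) (d : Kˣ) : ((hP hq hK ha d : ↥(GP hq hK)) : ↥(chevD4.group K)) = hel q a d :=
  rfl

theorem sys_hinv : ∃ h ∈ HB hq hK, h * p2P hq hK * h⁻¹ = (p2P hq hK)⁻¹ ∧ h * p5P hq hK * h⁻¹ = (p5P hq hK)⁻¹ := by
  obtain ⟨d, hd⟩ := cb_sign hq hK (s := -1) (Or.inr rfl)
  refine ⟨_, hP_mem hq hK (one_pow q) d, Subtype.ext ?_, Subtype.ext ?_⟩ <;>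
    simp only [Subgroup.coe_mul, Subgroup.coe_inv, coe_p2, coe_p5, coe_hP]
  · rw [hel_14, hd, xG_inv]; push_cast; ring_nf
  · rw [hel_9, Units.val_inv_eq_inv_val, hd, xG_inv]; push_cast; ring_nf

theorem sys_hbraid : ∃ h ∈ HB hq hK,
    (naP hq hK * nbP hq hK * naP hq hK * nbP hq hK * naP hq hK) * p2P hq hK *
      (naP hq hK * nbP hq hK * naP hq hK * nbP hq hK * naP hq hK)⁻¹ = h * p2P hq hK * h⁻¹ ∧
    (naP hq hK * nbP hq hK * naP hq hK * nbP hq hK * naP hq hK) * p5P hq hK *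
      (naP hq hK * nbP hq hK * naP hq hK * nbP hq hK * naP hq hK)⁻¹ = h * p5P hq hK * h⁻¹ := by
  obtain ⟨-, -, -, hs, -⟩ := braidTab
  obtain ⟨d, hd⟩ := cb_sign (K := K) hq hK hs
  refine ⟨_, hP_mem hq hK (one_pow q) d, Subtype.ext ?_, Subtype.ext ?_⟩ <;>
    simp only [Subgroup.coe_mul, Subgroup.coe_inv, coe_p2, coe_p5, coe_hP, naP, nbP]
  · rw [braid_X (Or.inl rfl), hel_14, hd]
  · rw [braid_X (Or.inr rfl), hel_9, Units.val_inv_eq_inv_val, hd]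
    rcases hs with e | e <;> rw [e] <;> simp

theorem exists_cb {c : Kˣ} (hc : c ^ q = c) : cb (c ^ 2) c q = c ∧ (c ^ 2) ^ q = c ^ 2 := by
  refine ⟨?_, by rw [← pow_mul, mul_comm, pow_mul, hc]⟩
  rw [cb, hc, hc, sq, sq]; group

theorem sys_orb2 : ∀ x ∈ SB hq hK (lL 2), x = 1 ∨ ∃ h ∈ HB hq hK, x = h * p2P hq hK * h⁻¹ := by
  intro x hx
  obtain ⟨t, ht, e⟩ := param_14 hq hK x.2 hx
  by_cases h0 : t = 0
  · exact Or.inl (Subtype.ext (by rw [e, h0]; exact (R0 K).xe_zero 14))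
  obtain ⟨h1, h2⟩ := exists_cb (q := q) (c := Units.mk0 t h0) (Units.ext (by push_cast; exact ht))
  refine Or.inr ⟨_, hP_mem hq hK h2 (Units.mk0 t h0), Subtype.ext ?_⟩
  simp only [Subgroup.coe_mul, Subgroup.coe_inv, coe_p2, coe_hP]
  rw [e, hel_14, h1, Units.val_mk0, mul_one]

theorem sys_orb5 : ∀ x ∈ SB hq hK (lL 5), x = 1 ∨ ∃ h ∈ HB hq hK, x = h * p5P hq hK * h⁻¹ := by
  intro x hx
  obtain ⟨t, ht, e⟩ := param_9 hq hK x.2 hx
  by_cases h0 : t = 0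
  · exact Or.inl (Subtype.ext (by rw [e, h0]; exact (R0 K).xe_zero 9))
  obtain ⟨h1, h2⟩ := exists_cb (q := q) (c := (Units.mk0 (-t) (neg_ne_zero.2 h0))⁻¹) (Units.ext (by
    push_cast [Units.val_mk0]; rw [inv_pow, neg_pow_D4 hq hK, ht]))
  refine Or.inr ⟨_, hP_mem hq hK h2 (Units.mk0 (-t) (neg_ne_zero.2 h0))⁻¹, Subtype.ext ?_⟩
  simp only [Subgroup.coe_mul, Subgroup.coe_inv, coe_p5, coe_hP]
  rw [e, hel_9, h1, inv_inv, Units.val_mk0, mul_neg_one, neg_neg]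

theorem sys_fpf : ∃ h ∈ HB hq hK, (∀ s ∈ SB hq hK (sL 1), ⁅h, s⁆ = 1 → s = 1) ∧
    ∀ s ∈ SB hq hK (sL 1), ∃ s' ∈ SB hq hK (sL 1), ⁅h, s'⁆ = s := by
  obtain ⟨d, hd⟩ := exists_cM hq hK
  obtain ⟨e1, e2⟩ := comm_scale (mP hq hK) (mP_add hq hK) (hP_mP hq hK (one_pow q) d) (val_ne_one hd)
  refine ⟨_, hP_mem hq hK (one_pow q) d, fun s hs h => ?_, fun s hs => ?_⟩
  · obtain ⟨t, rfl⟩ := exists_mP hq hK hs
    rw [e1] at h
    have h3 := xM_eq_one hq hK (congrArg Subtype.val h)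
    rw [mul_eq_zero, sub_eq_zero, or_iff_right (val_ne_one hd)] at h3
    rw [h3]
    have := mP_add hq hK 0 0
    rwa [add_zero, mul_eq_left] at this
  · obtain ⟨t, rfl⟩ := exists_mP hq hK hs
    obtain ⟨t', e⟩ := e2 t
    exact ⟨_, mP_mem hq hK t', e⟩

theorem sys_fpf0 : ∀ s ∈ SB hq hK (sL 0), ∃ h ∈ HB hq hK ⊓ MA hq hK, ∃ s' ∈ SB hq hK (sL 0), ⁅h, s'⁆ = s := by
  intro s hs
  obtain ⟨d, hd, -⟩ := exists_sq_ne hq hK
  obtain ⟨t, rfl⟩ := exists_aP hq hK hs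
  obtain ⟨t', e⟩ := (comm_scale (aP hq hK) (aP_add hq hK) (hP_aP hq hK (one_pow q) d)
    (val_ne_one (by simpa [cA] using hd))).2 t
  exact ⟨_, Subgroup.mem_inf.2 ⟨hP_mem hq hK _ d, (naP_mem_MA hq hK).2.2 d⟩, _, aP_mem hq hK t', e⟩

include hq hK in
theorem norm_surj {a : Kˣ} (ha : a ^ q = a) : ∃ c : Kˣ, c * c ^ q * (c ^ q) ^ q = a := by
  obtain ⟨g, hg⟩ := exists_gen hq hK
  have h2 := hq.two_le
  have hcard : Nat.card Kˣ = q ^ 3 - 1 := by rw [Nat.card_units, Nat.card_eq_fintype_card, hK]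
  have htop : Submonoid.powers g = ⊤ := by
    refine eq_top_iff.2 fun x _ => ?_
    have : Subgroup.zpowers g = ⊤ := Subgroup.eq_top_of_card_eq _ (by rw [Nat.card_zpowers, hg, hcard])
    exact (mem_powers_iff_mem_zpowers).2 (this ▸ Subgroup.mem_top x)
  obtain ⟨n, rfl⟩ := htop ▸ Submonoid.mem_top a
  rw [← pow_mul, pow_eq_pow_iff_modEq, hg] at ha
  obtain ⟨p, rfl⟩ : ∃ p, q = p + 1 := ⟨q - 1, by omega⟩
  have e : (p + 1) ^ 3 - 1 = p * (1 + (p + 1) + (p + 1) ^ 2) := by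
    rw [show (p + 1) ^ 3 = p * (1 + (p + 1) + (p + 1) ^ 2) + 1 by ring, Nat.add_sub_cancel]
  have hd : p * (1 + (p + 1) + (p + 1) ^ 2) ∣ n * p := by
    have := (Nat.modEq_iff_dvd' (Nat.le_mul_of_pos_right n (Nat.succ_pos p))).1 ha.symm
    rwa [e, show n * Nat.succ p - n = n * p by rw [Nat.mul_succ, Nat.add_sub_cancel]] at this
  rw [mul_comm n p] at hd
  obtain ⟨k, rfl⟩ := Nat.dvd_of_mul_dvd_mul_left (by omega) hd
  exact ⟨g ^ k, by rw [← pow_mul, ← pow_mul, ← pow_add, ← pow_add]; congr 1; ring⟩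

theorem cartan14 : ([0, 1, 2, 3].map fun i => chevD4.cartan i 14) = [-1, 2, -1, -1] := by decide +kernel

omit [Fintype K] in
/-- the long reflection on the torus -/
theorem nbA_hel (c : Kˣ) : nbA K * hel q 1 c * (nbA K)⁻¹ = hel q (c * c ^ q * (c ^ q) ^ q) c := by
  obtain ⟨-, -, -, -, ⟨-, s1, -, -⟩, -⟩ := negD4
  have h := cartan14
  simp only [List.map_cons, List.map_nil, List.cons.injEq, and_true] at h
  obtain ⟨k0, k1, k2, k3⟩ := h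
  have e := (R0 K).ne_conj_torusG (ix 1 (by norm_num)) (tupD4 c 1 (c ^ q) ((c ^ q) ^ q))
  rw [show (R0 K).ne (chevD4.simple (ix 1 (by norm_num) : Fin chevD4.rank)) (1 : K) = nbA K by
    show (R0 K).ne (chevD4.simple 1) (1 : K) = _; rw [s1]; rfl] at e
  refine e.trans ?_
  show ((R0 K).torusHom _ : ↥(chevD4.group K)) = ((R0 K).torusHom _ : ↥(chevD4.group K))
  congr 2
  have hp : (∏ i : Fin chevD4.rank, tupD4 c 1 (c ^ q) ((c ^ q) ^ q) i ^ (-chevD4.cartan i (chevD4.simple (ix 1 (by norm_num) : Fin chevD4.rank)))) =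
      c * c ^ q * (c ^ q) ^ q := by
    show ∏ i : Fin chevD4.rank, tupD4 c 1 (c ^ q) ((c ^ q) ^ q) i ^ (-chevD4.cartan i (chevD4.simple 1)) = _
    rw [s1, Fin.prod_univ_def, show ((List.finRange chevD4.rank).map fun i : Fin chevD4.rank =>
      tupD4 c 1 (c ^ q) ((c ^ q) ^ q) i ^ (-chevD4.cartan i 14)) =
      (List.range 4).map fun i => [c, 1, c ^ q, (c ^ q) ^ q].getD i 1 ^ (-chevD4.cartan i 14) by
        rw [show List.range 4 = List.range chevD4.rank from rfl, ← List.map_coe_finRange_eq_range, List.map_map]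
        rfl]
    simp only [List.range_succ, List.range_zero, List.nil_append, List.cons_append, List.map_cons, List.map_nil,
      List.prod_cons, List.prod_nil, List.getD_cons_zero, List.getD_cons_succ, k0, k1, k2, k3]
    simp [mul_assoc]
  show tupD4 c 1 (c ^ q) ((c ^ q) ^ q) * Pi.mulSingle _ _ = _
  rw [hp]
  funext i
  obtain ⟨i, hi⟩ := i
  have hi4 : i < 4 := hi
  interval_cases i <;> simp [tupD4, ix, Fin.ext_iff]

theorem sys_hHgen : ∀ h ∈ HB hq hK, ∃ a ∈ HB hq hK ⊓ MA hq hK, ∃ b ∈ HB hq hK ⊓ MA hq hK,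
    h = a * (nbP hq hK * b * (nbP hq hK)⁻¹) := by
  intro h hh
  obtain ⟨a, ha, d, rfl⟩ := exists_hP hq hK hh
  obtain ⟨c, hc⟩ := norm_surj hq hK ha
  refine ⟨_, Subgroup.mem_inf.2 ⟨hP_mem hq hK (one_pow q) (d * c⁻¹), (naP_mem_MA hq hK).2.2 _⟩,
    _, Subgroup.mem_inf.2 ⟨hP_mem hq hK (one_pow q) c, (naP_mem_MA hq hK).2.2 c⟩, Subtype.ext ?_⟩
  simp only [Subgroup.coe_mul, Subgroup.coe_inv, coe_hP, nbP]
  rw [nbA_hel, hel_mul, hc, one_mul, inv_mul_cancel_right]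

theorem centTab : commB (sL 0) [23] [] = true ∧ commB (sL 3) [23] [] = true := by decide +kernel

/-- an element of the highest root subgroup -/
noncomputable def zP : ↥(GP hq hK) := ⟨xG certD4 K 23 1, (twD4 hq hK).Cm_le ((fixed_root_D4 hq hK).2.1 1 (one_pow q))⟩

theorem zP_comm {x : ↥(GP hq hK)} (hx : x ∈ MA hq hK) : x * zP hq hK = zP hq hK * x := by
  have hz : zP hq hK ∈ SB hq hK [23] := X_mem (List.mem_cons_self ..) _
  have hle : MA hq hK ≤ Subgroup.centralizer ({zP hq hK} : Set ↥(GP hq hK)) := by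
    refine sup_le ?_ ?_ <;> intro y hy <;> rw [Subgroup.mem_centralizer_singleton_iff]
    · exact SB_comm hq hK centTab.1 y hy _ hz
    · exact SB_comm hq hK centTab.2 y hy _ hz
  exact Subgroup.mem_centralizer_singleton_iff.1 (hle hx)

theorem sys_hHmeet : ∀ h ∈ HB hq hK ⊓ MA hq hK, (nbP hq hK)⁻¹ * h * nbP hq hK ∈ MA hq hK →
    h * p2P hq hK = p2P hq hK * h ∧ h * p5P hq hK = p5P hq hK * h := by
  intro h hh hb
  obtain ⟨hH, hM⟩ := Subgroup.mem_inf.1 hh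
  obtain ⟨a, ha, d, rfl⟩ := exists_hP hq hK hH
  have h1 : xG certD4 K 23 ((a : K) * 1) = xG certD4 K 23 1 := by
    have := congrArg Subtype.val (zP_comm hq hK hM)
    simp only [Subgroup.coe_mul, coe_hP, zP] at this
    rw [← (chi_eq (q := q) a d).2.2.2.2.2.2.2.2.2.2.2.2, ← hel_X _ _ (by norm_num), this, mul_inv_cancel_right]
  have ha1 : a = 1 := by
    have := (R0 K).xe_inj_param (r := ⟨23, by decide +kernel⟩) h1
    rw [mul_one] at this; exact Units.val_eq_one.1 this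
  subst ha1
  obtain ⟨e0, -⟩ : wB 23 = 22 ∧ True := ⟨by decide +kernel, trivial⟩
  have hcomm := congrArg Subtype.val (zP_comm hq hK hb)
  simp only [Subgroup.coe_mul, Subgroup.coe_inv, coe_hP, zP, nbP] at hcomm
  have h2 : hel q 1 d * (nbA K * xG certD4 K 23 1 * (nbA K)⁻¹) * (hel q 1 d)⁻¹ =
      nbA K * xG certD4 K 23 1 * (nbA K)⁻¹ := by
    rw [show hel q 1 d * (nbA K * xG certD4 K 23 1 * (nbA K)⁻¹) * (hel q 1 d)⁻¹ = nbA K * (((nbA K)⁻¹ *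
      hel q 1 d * nbA K) * xG certD4 K 23 1 * ((nbA K)⁻¹ * hel q 1 d * nbA K)⁻¹) * (nbA K)⁻¹ by group, hcomm,
      mul_inv_cancel_right]
  rw [nbA_X (by norm_num), e0, hel_X _ _ (by norm_num), (chi_eq (q := q) 1 d).2.2.2.2.2.2.2.2.2.2.2.1] at h2
  have h3 := (R0 K).xe_inj_param (r := ⟨22, by decide +kernel⟩) h2
  have hne : ((auxD4.eta 1 23 : ℤ) : K) * 1 ≠ 0 := by
    rcases (show auxD4.eta 1 23 = 1 ∨ auxD4.eta 1 23 = -1 by decide +kernel) with e | e <;> simp [e]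
  have hc : ((d * 1⁻¹ * d ^ q * (d ^ q) ^ q : Kˣ) : K) = 1 := by
    exact mul_right_cancel₀ hne (h3.trans (one_mul _).symm)
  have hcb : cb 1 d q = 1 := by
    rw [inv_one, mul_one, Units.val_eq_one] at hc
    rw [cb, one_pow, mul_one, ← mul_inv, ← mul_inv, hc, inv_one]
  constructor <;> refine Subtype.ext ?_ <;>
    simp only [Subgroup.coe_mul, coe_p2, coe_p5, coe_hP] <;> rw [← mul_inv_eq_iff_eq_mul]
  · rw [hel_14, hcb, Units.val_one, one_mul]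
  · rw [hel_9, hcb, inv_one, Units.val_one, one_mul]

theorem sys_rank1 : ∀ x ∈ SB hq hK (sL 3), x = 1 ∨ ∃ p ∈ SB hq hK (sL 0), ∃ h ∈ HB hq hK ⊓ MA hq hK,
    ∃ p' ∈ SB hq hK (sL 0), x = p * (h * naP hq hK) * p' := by
  intro x hx
  obtain ⟨hnM, hna, -⟩ := naP_mem_MA hq hK
  obtain ⟨n, hn⟩ : ∃ n, n = naP hq hK := ⟨_, rfl⟩
  obtain ⟨A, hA⟩ : ∃ A, A = aP hq hK 1 := ⟨_, rfl⟩
  obtain ⟨N, hN⟩ : ∃ N, N = nP hq hK (-1) := ⟨_, rfl⟩
  have hAm : A ∈ SB hq hK (sL 0) := hA ▸ aP_mem hq hK 1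
  rw [← hn, ← hA, ← hN] at hna
  have key : ∀ y ∈ SB hq hK (sL 3), ∃ t, y = n * aP hq hK t * n⁻¹ := by
    intro y hy
    rw [show (3 : ZMod 6) = 3 - 0 by decide, ← cj_naP_s, CfsgLib.Lie.G2Cover.mem_cj, ← hn] at hy
    obtain ⟨t, e⟩ := exists_aP hq hK hy
    exact ⟨t, by rw [← e]; group⟩
  obtain ⟨t, ht⟩ := key x hx
  obtain ⟨t0, ht0⟩ := key N (hN ▸ xND4_mem_sL3 _)
  have hz : aP hq hK 0 = 1 := Subtype.ext (xA_zero hq hK)
  by_cases h0 : t = 0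
  · left; rw [ht, h0, hz]; group
  have h00 : t0 ≠ 0 := by
    intro e0
    have e1 : N = 1 := by rw [ht0, e0, hz]; group
    have e2 : naA K ∈ (R0 K).BS ⊓ (R0 K).NS := Subgroup.mem_inf.2 ⟨by
      have e3 : n = A * A := by rw [hna, e1, mul_one]
      rw [show naA K = xAD4 q 1 * xAD4 q 1 by
        have := congrArg Subtype.val (hn ▸ hA ▸ e3)
        exact this]
      exact (R0 K).UP_le_BS (mul_mem (UL_le_UP (L := sL 0) (by decide +kernel) (xA_mem_sL0 _))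
        (UL_le_UP (L := sL 0) (by decide +kernel) (xA_mem_sL0 _))), naA_mem_NS⟩
    rw [(R0 K).BS_inf_NS] at e2
    have := perm_UL_A (permTab.1 0).1 (xA_mem_sL0 (q := q) (1 : K))
    have h5 : naA K * xAD4 q (1 : K) * (naA K)⁻¹ ∈ UL K (sL 0) := HS_conj_UL e2 (xA_mem_sL0 _)
    have h7 := (R0 K).BS_inf_UN ((R0 K).UP_le_BS (UL_le_UP (by decide +kernel) h5))
      (UL_le_UN (by decide +kernel) (show _ ∈ UL K (sL 3) from by simpa using this))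
    rw [mul_inv_eq_one, mul_eq_left] at h7
    exact one_ne_zero (α := K) (xA_eq_one h7)
  obtain ⟨c, hc⟩ : ∃ c : Kˣ, c = Units.mk0 t h0 * (Units.mk0 t0 h00)⁻¹ := ⟨_, rfl⟩
  obtain ⟨m, hm⟩ : ∃ m, q ^ 2 + q + 2 = m * 2 := by
    obtain ⟨i, hi⟩ := Nat.even_mul_succ_self q
    exact ⟨i + 1, by rw [sq, show q * q + q = q * (q + 1) by ring, hi]; ring⟩
  have hca : cA (c ^ (1 + q + q ^ 2)) (c ^ m) = c := by
    rw [cA, ← pow_mul, ← hm, mul_inv_eq_iff_eq_mul, ← pow_succ']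
    congr 1; ring
  obtain ⟨g, hg⟩ : ∃ g, g = n * hP hq hK (pow_S hK (a := c)) (c ^ m) * n⁻¹ := ⟨_, rfl⟩
  have hgH : g ∈ HB hq hK := by
    rw [← cj_HB hq hK (n := n) (hn ▸ naA_mem_NS), hg]
    exact CfsgLib.Lie.G2Cover.conj_mem_cj (hP_mem hq hK _ _)
  have hgx : g * N * g⁻¹ = x := by
    have e : hP hq hK (pow_S hK (a := c)) (c ^ m) * aP hq hK t0 * (hP hq hK (pow_S hK (a := c)) (c ^ m))⁻¹ =
        aP hq hK t := by
      rw [hP_aP, hca, hc]; simp [h00]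
    rw [hg, ht0, ht, ← e]; group
  have hgA : ∀ y ∈ SB hq hK (sL 0), g * y * g⁻¹ ∈ SB hq hK (sL 0) := fun y hy => by
    rw [← HB_cj hq hK hgH (sL 0)]; exact CfsgLib.Lie.G2Cover.conj_mem_cj hy
  have hMA : cj g (MA hq hK) = MA hq hK := by
    rw [MA, cj, Subgroup.map_sup]
    exact congrArg₂ (· ⊔ ·) (HB_cj hq hK hgH _) (HB_cj hq hK hgH _)
  refine Or.inr ⟨g * A⁻¹ * g⁻¹, hgA _ (inv_mem hAm), g * n * g⁻¹ * n⁻¹, Subgroup.mem_inf.2 ⟨?_, ?_⟩,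
    g * A⁻¹ * g⁻¹, hgA _ (inv_mem hAm), ?_⟩
  · rw [show g * n * g⁻¹ * n⁻¹ = g * (n * g⁻¹ * n⁻¹) by group]
    refine mul_mem hgH ?_
    rw [← cj_HB hq hK (n := n) (hn ▸ naA_mem_NS)]
    exact CfsgLib.Lie.G2Cover.conj_mem_cj (inv_mem hgH)
  · refine mul_mem ?_ (inv_mem (hn ▸ hnM))
    rw [← hMA]
    exact CfsgLib.Lie.G2Cover.conj_mem_cj (hn ▸ hnM)
  · rw [← hn, ← hgx, hna]; group

end CfsgLib.Lie.Chev.TwGroups.D4Mult
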